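import Groth.Agent.SpecialGLLib.CocSplit
import Groth.Agent.LieKolchin.TrigDiag
import Groth.Agent.S3264
import Groth.Agent.HopfFF.Image

/-!
# Cocycles with values in connected trigonalizable groups split (characteristic zero)
-/

set_option autoImplicit false
set_option maxHeartbeats 1000000
set_option linter.style.haveILetI false

universe u

open TensorProduct WithConv

noncomputable section

namespace Groth.Agent.SpecialGL.Hopf

open Groth.Agent.DynLib (groupPoints)

variable {k : Type u} [Field k] {A : Type u} [CommRing A] [HopfAlgebra k A]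

theorem push_inv {T T' : Type u} [CommRing T] [CommRing T'] [Algebra k T] [Algebra k T'] (g : T →ₐ[k] T')
    (u : WithConv (A →ₐ[k] T)) : push g u⁻¹ = (push g u)⁻¹ := rfl

theorem inv_apply_primitive {x : A} (hx : Coalgebra.comul (R := k) x = x ⊗ₜ[k] (1 : A) + (1 : A) ⊗ₜ[k] x)
    {T : Type u} [CommRing T] [Algebra k T] (u : WithConv (A →ₐ[k] T)) : (u⁻¹).ofConv x = -u.ofConv x := by
  show u.ofConv (HopfAlgebra.antipode k x) = _
  rw [Comodule.antipode_primitive hx, map_neg]

theorem inv_apply_groupLike (γ : GroupLike k A) {T : Type u} [CommRing T] [Algebra k T]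
    (u : WithConv (A →ₐ[k] T)) : (u⁻¹).ofConv γ.val = u.ofConv (γ⁻¹ : GroupLike k A).val := rfl

/-- A nonzero primitive element is transcendental in characteristic zero. -/
theorem transcendental_primitive [CharZero k] {x : A}
    (hx : Coalgebra.comul (R := k) x = x ⊗ₜ[k] (1 : A) + (1 : A) ⊗ₜ[k] x) (hx0 : x ≠ 0) :
    Function.Injective (Polynomial.aeval (R := k) x) := by
  haveI : Nontrivial A := ⟨x, 0, hx0⟩
  rw [← transcendental_iff_injective]
  intro halg
  have hint : IsIntegral k x := halg.isIntegral
  let m := minpoly k x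
  have hm : m.Monic := minpoly.monic hint
  let d := m.natDegree
  have hd0 : 0 < d := minpoly.natDegree_pos hint
  have hli : LinearIndependent k (fun i : Fin d => x ^ (i : ℕ)) := linearIndependent_pow x
  have hd1 : 1 < d := by
    by_contra hle
    obtain ⟨c, hc⟩ := minpoly.natDegree_eq_one_iff.mp (show m.natDegree = 1 by omega)
    apply hx0
    rw [← hc]
    have h0 := Comodule.counit_primitive hx
    rw [← hc, Bialgebra.counit_algebraMap] at h0
    rw [h0, map_zero]
  let bas := Module.Basis.span hli
  obtain ⟨φ, hφ⟩ := LinearMap.exists_extend (bas.constr k fun i : Fin d => if (i : ℕ) = 1 then (1 : k) else 0)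
  have hφi : ∀ i : Fin d, φ (x ^ (i : ℕ)) = if (i : ℕ) = 1 then (1 : k) else 0 := by
    intro i
    have := DFunLike.congr_fun hφ (bas i)
    rw [Module.Basis.constr_basis] at this
    rw [← this]
    simp [bas, Module.Basis.span_apply]
  let Φ : A ⊗[k] A →ₗ[k] A := (TensorProduct.rid k A).toLinearMap.comp (φ.lTensor A)
  have hΦ : ∀ a b : A, Φ (a ⊗ₜ b) = φ b • a := fun a b => by simp [Φ]
  have hpow : ∀ n, Φ (Coalgebra.comul (R := k) (x ^ n)) =
      ∑ j ∈ Finset.range (n + 1), (n.choose j : k) • (φ (x ^ (n - j)) • x ^ j) := by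
    intro n
    rw [Bialgebra.comul_pow, hx, add_pow, map_sum]
    refine Finset.sum_congr rfl fun j _ => ?_
    rw [Algebra.TensorProduct.tmul_pow, Algebra.TensorProduct.tmul_pow, one_pow, one_pow,
      Algebra.TensorProduct.tmul_mul_tmul, mul_one, one_mul, ← nsmul_eq_mul', map_nsmul, hΦ, Nat.cast_smul_eq_nsmul]
  have hlow : ∀ n < d, Φ (Coalgebra.comul (R := k) (x ^ n)) = if n = 0 then 0 else (n : k) • x ^ (n - 1) := by
    intro n hn
    rw [hpow]
    rcases Nat.eq_zero_or_pos n with h | h
    · subst h
      have := hφi ⟨0, hd0⟩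
      simp only [pow_zero] at this
      simp [this]
    · rw [if_neg h.ne', Finset.sum_eq_single (n - 1)]
      · rw [show n - (n - 1) = 1 by omega, show n.choose (n - 1) = n by rw [Nat.choose_symm h, Nat.choose_one_right]]
        have := hφi ⟨1, hd1⟩
        simp only [if_true] at this
        rw [this, one_smul]
      · intro j hj hne
        have hj' := Finset.mem_range.mp hj
        have := hφi ⟨n - j, by omega⟩
        rw [if_neg (by simp; omega)] at this
        rw [this, zero_smul, smul_zero]
      · intro hne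
        exact absurd (Finset.mem_range.mpr (by omega)) hne
  -- apply the translation functional to the minimal equation
  have hzero : ∑ n ∈ Finset.range (d + 1), m.coeff n • Φ (Coalgebra.comul (R := k) (x ^ n)) = 0 := by
    have h0 : ∑ n ∈ Finset.range (d + 1), m.coeff n • x ^ n = 0 := by
      rw [← Polynomial.aeval_eq_sum_range]; exact minpoly.aeval k x
    have := congrArg (fun a => Φ (Coalgebra.comul (R := k) a)) h0
    simpa only [map_sum, map_smul, map_zero] using this
  rw [Finset.sum_range_succ, show m.coeff d = 1 from hm.coeff_natDegree, one_smul, hpow d,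
    Finset.sum_range_succ, Nat.sub_self] at hzero
  have hφ1 : φ (x ^ (0 : ℕ)) = 0 := by simpa using hφi ⟨0, hd0⟩
  rw [hφ1, zero_smul, smul_zero, add_zero] at hzero
  let c : Fin d → k := fun j => (if (j : ℕ) + 1 < d then ((j : ℕ) + 1 : k) * m.coeff ((j : ℕ) + 1) else 0) +
    (d.choose j : k) * φ (x ^ (d - j))
  have hc : ∑ j : Fin d, c j • x ^ (j : ℕ) = 0 := by
    rw [Fin.sum_univ_eq_sum_range (fun j => ((if j + 1 < d then ((j : k) + 1) * m.coeff (j + 1) else 0) +
      (d.choose j : k) * φ (x ^ (d - j))) • x ^ j) d]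
    rw [← hzero]
    simp only [add_smul, Finset.sum_add_distrib, mul_smul]
    congr 1
    obtain ⟨e, he⟩ := Nat.exists_eq_add_one_of_ne_zero hd0.ne'
    rw [he, Finset.sum_range_succ, if_neg (lt_irrefl _), zero_smul, add_zero, Finset.sum_range_succ',
      hlow 0 hd0, if_pos rfl, smul_zero, add_zero]
    refine Finset.sum_congr rfl fun j hj => ?_
    have hj' := Finset.mem_range.mp hj
    rw [if_pos (by omega), hlow (j + 1) (by omega), if_neg (by omega), Nat.add_sub_cancel, smul_smul, mul_comm,
      Nat.cast_add, Nat.cast_one]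
  have hlast := Fintype.linearIndependent_iff.mp hli c hc ⟨d - 1, by omega⟩
  simp only [c] at hlast
  rw [if_neg (by omega), zero_add, show d - (d - 1) = 1 by omega,
    show d.choose (d - 1) = d by rw [Nat.choose_symm (by omega), Nat.choose_one_right]] at hlast
  have h1 := hφi ⟨1, hd1⟩
  simp only [if_true] at h1
  rw [h1, mul_one] at hlast
  exact hd0.ne' (Nat.cast_eq_zero.mp hlast)

/-- Extension by the additive group. -/
theorem cocSplit_of_primitive [CharZero k] {x : A}
    (hx : Coalgebra.comul (R := k) x = x ⊗ₜ[k] (1 : A) + (1 : A) ⊗ₜ[k] x) (hx0 : x ≠ 0)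
    {N : Type u} [CommRing N] [HopfAlgebra k N] (π : A →ₐc[k] N) (hπ : Function.Surjective π)
    (hker : ∀ a, π a = 0 → a ∈ Ideal.span {x}) (hN : CocSplit k N) : CocSplit k A := by
  intro R _ _ _
  refine cocSplit_step π hπ (hN R) fun B _ _ _ c => ?_
  letI : Algebra k B := Algebra.compHom B (algebraMap k R)
  haveI : IsScalarTower k R B := IsScalarTower.of_algebraMap_eq fun _ => rfl
  obtain ⟨w, hw⟩ := exists_add_coboundary c hx
  let e : Polynomial k ≃ₐ[k] Algebra.adjoin k {x} :=
    (AlgEquiv.ofInjective (Polynomial.aeval (R := k) x) (transcendental_primitive hx hx0)).trans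
      (Subalgebra.equivOfEq _ _ (Algebra.adjoin_singleton_eq_range_aeval k x).symm)
  have heX : ((e Polynomial.X : Algebra.adjoin k {x}) : A) = x := by simp [e]
  let v : Algebra.adjoin k {x} →ₐ[k] B := (Polynomial.aeval w).comp e.symm.toAlgHom
  have hff : ((Algebra.adjoin k {x}).val : Algebra.adjoin k {x} →+* A).FaithfullyFlat :=
    (RingHom.faithfullyFlat_algebraMap_iff (R := Algebra.adjoin k {x}) (S := A)).mpr
      (HopfFF.faithfullyFlat_of_hopfSub (Comodule.isHopfSub_adjoin hx))
  obtain ⟨B', _, _, _, _, _, f, u, hu⟩ := exists_lift_point (Algebra.adjoin k {x}).val hff (R := R) v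
  have hux : u.ofConv x = f w := by
    have h := DFunLike.congr_fun hu (e Polynomial.X)
    simp only [AlgHom.comp_apply, Subalgebra.coe_val, AlgHom.restrictScalars_apply, heX] at h
    rw [h]
    simp [v]
  refine ⟨B', inferInstance, inferInstance, inferInstance, inferInstance, inferInstance, f, u,
    fun T _ _ _ _ p q a ha => ?_⟩
  obtain ⟨b, rfl⟩ := Ideal.mem_span_singleton'.mp (hker a ha)
  rw [map_mul, conv_apply_primitive hx, conv_apply_primitive hx, inv_apply_primitive hx]
  have h := hw T (p.comp f) (q.comp f)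
  simp only [AlgHom.comp_apply] at h
  show _ * (-(p (u.ofConv x)) + (c.D (p.comp f) (q.comp f)).ofConv x + q (u.ofConv x)) = 0
  rw [hux, add_assoc, h, neg_add_cancel, mul_zero]

/-- A unipotent group in characteristic zero has split cocycles. -/
theorem cocSplit_of_isUnipotent [CharZero k] [Algebra.FiniteType k A] (hU : HopfRep.IsUnipotent k A) :
    CocSplit k A := by
  have hprim := (Groth.Agent.S3264.result k A).mp hU
  haveI : IsNoetherianRing A := Algebra.FiniteType.isNoetherianRing k A
  have key : ∀ I : Ideal A, ∀ (N : Type u) [CommRing N] [HopfAlgebra k N] (π : A →ₐc[k] N),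
      Function.Surjective π → RingHom.ker π = I → CocSplit k N := by
    intro I
    induction I using WellFoundedGT.induction with
    | _ I ih =>
      intro N _ _ π hπ hI
      haveI : I.IsHopfIdeal k := hI ▸ Comodule.isHopfIdeal_ker π hπ
      by_cases hA : I = RingHom.ker (Bialgebra.counitAlgHom k A)
      · refine fun R _ _ _ => cocSplit_of_forall_eq (fun n => ?_) R
        obtain ⟨a, rfl⟩ := hπ n
        refine ⟨Bialgebra.counitAlgHom k A a, ?_⟩
        have hmem : a - algebraMap k A (Bialgebra.counitAlgHom k A a) ∈ RingHom.ker π := by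
          rw [hI, hA, RingHom.mem_ker, map_sub, AlgHom.commutes]
          exact sub_self _
        have := RingHom.mem_ker.mp hmem
        rw [map_sub, sub_eq_zero] at this
        rw [this]
        exact (π : A →ₐ[k] N).commutes _
      · obtain ⟨x, hx0, hx⟩ := hprim I hA
        let gA : A ⧸ I →ₐ[k] N := Ideal.Quotient.liftₐ I (π : A →ₐ[k] N) fun a ha => by
          rw [← hI] at ha; exact ha
        let g : A ⧸ I →ₐc[k] N := BialgHom.ofAlgHom gA
          (Ideal.Quotient.algHom_ext k (AlgHom.ext fun a => CoalgHomClass.counit_comp_apply π a))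
          (Ideal.Quotient.algHom_ext k (AlgHom.ext fun a => by
            have h1 : ∀ t : A ⊗[k] A, Algebra.TensorProduct.map gA gA
                (Algebra.TensorProduct.map (Ideal.Quotient.mkₐ k I) (Ideal.Quotient.mkₐ k I) t) =
                TensorProduct.map π.toLinearMap π.toLinearMap t := by
              intro t
              induction t with
              | zero => simp
              | add p q hp hq => simp only [map_add, hp, hq]
              | tmul p q => simp [gA]; rfl
            refine Eq.trans ?_ ((h1 _).trans (CoalgHomClass.map_comp_comul_apply π a))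
            simp only [AlgHom.comp_apply]
            congr 1
            ))
        have hginj : Function.Injective g := by
          intro p q hpq
          obtain ⟨a, rfl⟩ := Ideal.Quotient.mk_surjective p
          obtain ⟨b, rfl⟩ := Ideal.Quotient.mk_surjective q
          refine Ideal.Quotient.eq.mpr ?_
          rw [← hI, RingHom.mem_ker, map_sub, sub_eq_zero]
          exact hpq
        let y := g x
        have hy : Coalgebra.comul (R := k) y = y ⊗ₜ[k] (1 : N) + (1 : N) ⊗ₜ[k] y := by
          rw [← CoalgHomClass.map_comp_comul_apply g x, hx]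
          simp [y]
        have hy0 : y ≠ 0 := fun h => hx0 (hginj (h.trans (map_zero g).symm))
        haveI := Comodule.isHopfIdeal_span_primitive hy
        let π' : A →ₐc[k] N ⧸ Ideal.span {y} := (Bialgebra.Quotient.mkBialgHom (R := k) (Ideal.span {y})).comp π
        have hπ' : Function.Surjective π' := Ideal.Quotient.mk_surjective.comp hπ
        have hlt : I < RingHom.ker π' := by
          have hle : I ≤ RingHom.ker π' := fun a ha => by
            rw [← hI] at ha
            show Ideal.Quotient.mk (Ideal.span {y}) (π a) = 0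
            rw [RingHom.mem_ker.mp ha, map_zero]
          refine hle.lt_of_ne fun he => hy0 ?_
          obtain ⟨a, ha⟩ := hπ y
          have hmem : a ∈ RingHom.ker π' := by
            show Ideal.Quotient.mk (Ideal.span {y}) (π a) = 0
            rw [ha]
            exact Ideal.Quotient.eq_zero_iff_mem.mpr (Ideal.mem_span_singleton_self _)
          rw [← he, ← hI] at hmem
          rw [← ha]
          exact hmem
        exact cocSplit_of_primitive hy hy0 (Bialgebra.Quotient.mkBialgHom (R := k) (Ideal.span {y}))
          Ideal.Quotient.mk_surjective (fun a ha => Ideal.Quotient.eq_zero_iff_mem.mp ha)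
          (ih _ hlt _ π' hπ' rfl)
  exact key _ A (BialgHom.id k A) Function.surjective_id rfl

theorem groupLike_eq_one_of_pow [IsAlgClosed k] [IsDomain A] {g : GroupLike k A} {n : ℕ} (hn : 0 < n)
    (h : g ^ n = 1) : g = 1 := by
  have hpow : (g : A) ^ n = 1 := by rw [← GroupLike.val_pow, h, GroupLike.val_one]
  have hint : IsIntegral k (g : A) := ⟨Polynomial.X ^ n - 1, Polynomial.monic_X_pow_sub_C 1 hn.ne', by simp [hpow]⟩
  obtain ⟨c, hc⟩ := minpoly.natDegree_eq_one_iff.mp (Polynomial.natDegree_eq_of_degree_eq_some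
    (IsAlgClosed.degree_eq_one_of_irreducible k (minpoly.irreducible hint)))
  apply GroupLike.ext
  have h1 := g.isGroupLikeElem_val.counit_eq_one
  rw [← hc, Bialgebra.counit_algebraMap] at h1
  rw [← hc, h1, map_one, GroupLike.val_one]

theorem fg_groupLike [Algebra.FiniteType k A] : Group.FG (GroupLike k A) := by
  classical
  haveI : IsNoetherianRing A := Algebra.FiniteType.isNoetherianRing k A
  let S : Set A := Set.range fun g : GroupLike k A => (g : A) - 1
  obtain ⟨t, htS, ht⟩ := (Submodule.fg_span_iff_fg_span_finset_subset S).mp (IsNoetherian.noetherian (Submodule.span A S))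
  have hex : ∀ a : t, ∃ g : GroupLike k A, (g : A) - 1 = a := fun a => htS a.2
  choose g hg using hex
  let H : Subgroup (GroupLike k A) := Subgroup.closure (Set.range g)
  suffices hH : H = ⊤ by
    exact ⟨⟨Finset.univ.image g, by rw [Finset.coe_image, Finset.coe_univ, Set.image_univ]; exact hH⟩⟩
  rw [eq_top_iff]
  intro γ _
  let C := MonoidAlgebra k (GroupLike k A)
  let ψ : C →+* A := (LieKolchin.TrigDiag.charMap k A : C →+* A)
  have hψ : ψ.FaithfullyFlat :=
    HopfFF.faithfullyFlat_of_injective _ (LieKolchin.TrigDiag.charMap_injective k A)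
  let χ : C →ₐ[k] MonoidAlgebra k (GroupLike k A ⧸ H) :=
    MonoidAlgebra.mapDomainAlgHom k k (QuotientGroup.mk' H)
  let I : Ideal C := Ideal.span (Set.range fun a : t => MonoidAlgebra.single (g a) (1 : k) - 1)
  have hI : I ≤ RingHom.ker χ := Ideal.span_le.mpr (by
    rintro _ ⟨a, rfl⟩
    show χ (MonoidAlgebra.single (g a) 1 - 1) = 0
    rw [map_sub, map_one, sub_eq_zero]
    have e : QuotientGroup.mk' H (g a) = 1 := (QuotientGroup.eq_one_iff _).mpr (Subgroup.subset_closure ⟨a, rfl⟩)
    exact (MonoidAlgebra.mapDomain_single (M := GroupLike k A) ..).trans (by rw [e, MonoidAlgebra.one_def]))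
  have hψs : ∀ γ' : GroupLike k A, ψ (MonoidAlgebra.single γ' 1 - 1) = (γ' : A) - 1 := fun γ' => by
    rw [map_sub, map_one, sub_left_inj]
    exact (LieKolchin.TrigDiag.charMap_single k A γ' 1).trans (one_smul k _)
  have hmem : ψ (MonoidAlgebra.single γ 1 - 1) ∈ Ideal.map ψ I := by
    rw [hψs, Ideal.map_span]
    have h1 : (γ : A) - 1 ∈ Submodule.span A S := Submodule.subset_span ⟨γ, rfl⟩
    refine Submodule.span_mono ?_ (le_of_eq ht h1)
    intro a ha
    exact ⟨_, ⟨⟨a, ha⟩, rfl⟩, by rw [hψs, hg]⟩
  letI : Algebra C A := ψ.toAlgebra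
  haveI : Module.FaithfullyFlat C A := hψ
  have hm2 : MonoidAlgebra.single γ (1 : k) - 1 ∈ Ideal.comap (algebraMap C A) (Ideal.map (algebraMap C A) I) := hmem
  rw [Ideal.comap_map_eq_self_of_faithfullyFlat] at hm2
  have h2 := RingHom.mem_ker.mp (hI hm2)
  rw [map_sub, map_one, sub_eq_zero] at h2
  have e2 : χ (MonoidAlgebra.single γ 1) = MonoidAlgebra.single (QuotientGroup.mk' H γ) 1 :=
    MonoidAlgebra.mapDomain_single ..
  rw [e2, MonoidAlgebra.one_def] at h2
  exact (QuotientGroup.eq_one_iff γ).mp (MonoidAlgebra.single_left_injective one_ne_zero h2)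

/-- Extension by a split torus: connected trigonalizable groups have split cocycles. -/
theorem cocSplit_of_isTrigonalizable [CharZero k] [IsAlgClosed k] [Algebra.FiniteType k A] [IsDomain A]
    (hT : HopfRep.IsTrigonalizable k A) : CocSplit k A := by
  haveI := fg_groupLike (k := k) (A := A)
  haveI hJ := LieKolchin.TrigDiag.isHopfIdeal_charIdeal k A
  have hUnip := LieKolchin.TrigDiag.isUnipotent_quotient hT
  let M := Additive (GroupLike k A)
  haveI : Module.Finite ℤ M := Module.Finite.iff_addGroup_fg.mpr (GroupFG.iff_add_fg.mp inferInstance)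
  haveI : Module.IsTorsionFree ℤ M := by
    refine Module.IsTorsionFree.mk fun n hn a b hab => ?_
    have hne : n ≠ 0 := hn.ne_zero
    have h0 : n • (a - b) = 0 := by rw [smul_sub, sub_eq_zero]; exact hab
    have h0' : n.natAbs • (a - b) = 0 := by
      rcases Int.natAbs_eq n with e | e <;> rw [e] at h0
      · rwa [natCast_zsmul] at h0
      · rwa [neg_smul, natCast_zsmul, neg_eq_zero] at h0
    have h1 : Additive.toMul (a - b) ^ n.natAbs = 1 := by
      rw [← toMul_nsmul, h0', toMul_zero]
    have := groupLike_eq_one_of_pow (Int.natAbs_pos.mpr hne) h1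
    exact sub_eq_zero.mp (congrArg Additive.ofMul this)
  haveI : Module.Free ℤ M := Module.free_of_finite_type_torsion_free'
  intro R _ _ _
  refine cocSplit_step (Bialgebra.Quotient.mkBialgHom (R := k) (LieKolchin.TrigDiag.charIdeal k A))
    Ideal.Quotient.mk_surjective (cocSplit_of_isUnipotent hUnip R) fun B _ _ _ c => ?_
  letI : Algebra k B := Algebra.compHom B (algebraMap k R)
  haveI : IsScalarTower k R B := IsScalarTower.of_algebraMap_eq fun _ => rfl
  let bas := Module.Free.chooseBasis ℤ M
  choose w hw using fun i => exists_unit_coboundary c (Additive.toMul (bas i) : GroupLike k A)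
  let χ₀ : M →ₗ[ℤ] Additive Bˣ := bas.constr ℤ fun i => Additive.ofMul (w i)
  let χ : GroupLike k A →* Bˣ := MonoidHom.toAdditive.symm χ₀.toAddMonoidHom
  have hχ : ∀ (γ : GroupLike k A) (T : Type u) [CommRing T] [Algebra k T] [Algebra R T] [IsScalarTower k R T]
      (p q : B →ₐ[R] T), (c.D p q).ofConv (γ : A) * q (χ γ) = p (χ γ) := by
    intro γ T _ _ _ _ p q
    let hu : GroupLike k A →* Tˣ := MonoidHom.toHomUnits
      ((c.D p q).ofConv.toRingHom.toMonoidHom.comp (GroupLike.valMonoidHom k A))
    let F : GroupLike k A →* Tˣ := hu * (Units.map q.toRingHom.toMonoidHom).comp χ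
    let G : GroupLike k A →* Tˣ := (Units.map p.toRingHom.toMonoidHom).comp χ
    have hFG : MonoidHom.toAdditive F = MonoidHom.toAdditive G := by
      have : (MonoidHom.toAdditive F).toIntLinearMap = (MonoidHom.toAdditive G).toIntLinearMap := by
        refine bas.ext fun i => ?_
        apply Additive.toMul.injective
        apply Units.ext
        have hb : χ (Additive.toMul (bas i)) = w i := by
          show Additive.toMul (χ₀ (bas i)) = _
          simp [χ₀]
        show (c.D p q).ofConv _ * q (χ (Additive.toMul (bas i)) : B) = p (χ (Additive.toMul (bas i)) : B)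
        rw [hb]
        exact hw i T p q
      exact AddMonoidHom.ext fun a => DFunLike.congr_fun this a
    exact congrArg Units.val (DFunLike.congr_fun (MonoidHom.toAdditive.injective hFG) γ)
  let v : MonoidAlgebra k (GroupLike k A) →ₐ[k] B :=
    MonoidAlgebra.lift k B (GroupLike k A) ((Units.coeHom B).comp χ)
  obtain ⟨B', _, _, _, _, _, f, u, hu⟩ := exists_lift_point
    (LieKolchin.TrigDiag.charMap k A : MonoidAlgebra k (GroupLike k A) →ₐ[k] A)
    (HopfFF.faithfullyFlat_of_injective _ (LieKolchin.TrigDiag.charMap_injective k A)) (R := R) v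
  have huγ : ∀ γ : GroupLike k A, u.ofConv (γ : A) = f (χ γ) := by
    intro γ
    have h := DFunLike.congr_fun hu (MonoidAlgebra.single γ 1)
    simpa [v, LieKolchin.TrigDiag.charMap_single] using h
  refine ⟨B', inferInstance, inferInstance, inferInstance, inferInstance, inferInstance, f, u,
    fun T _ _ _ _ p q a ha => ?_⟩
  have ha' : a ∈ LieKolchin.TrigDiag.charIdeal k A := Ideal.Quotient.eq_zero_iff_mem.mp ha
  refine RingHom.mem_ker.mp (((LieKolchin.TrigDiag.charIdeal_le_span k A).trans ?_) ha')
  refine Ideal.span_le.mpr ?_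
  rintro _ ⟨γ, rfl⟩
  rw [SetLike.mem_coe, RingHom.mem_ker, map_sub, map_one, sub_eq_zero,
    conv_apply_groupLike γ.isGroupLikeElem_val, conv_apply_groupLike γ.isGroupLikeElem_val, inv_apply_groupLike]
  show p (u.ofConv (γ⁻¹ : GroupLike k A).val) * _ * q (u.ofConv γ.val) = 1
  rw [huγ, huγ, mul_assoc]
  have h := hχ γ T (p.comp f) (q.comp f)
  simp only [AlgHom.comp_apply] at h
  rw [h, ← map_mul, ← map_mul, ← Units.val_mul, ← map_mul, inv_mul_cancel]
  simp

end Groth.Agent.SpecialGL.Hopf
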