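import Groth.Agent.AssocBundleLib.Torsor
import Groth.Agent.AssocBundleLib.Homog
import Groth.Agent.AssocBundleLib.Square
import Groth.Agent.FpqcDesc.Basic
import Groth.Agent.FpqcDesc.Stalk

/-!
# An extension of special groups is special
-/

set_option autoImplicit false
set_option maxHeartbeats 1000000
set_option linter.style.haveILetI false
set_option backward.isDefEq.respectTransparency false
set_option backward.isDefEq.respectTransparency.types false
universe u

open CategoryTheory CategoryTheory.Limits MonoidalCategory CartesianMonoidalCategory MonObj AlgebraicGeometry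

namespace Groth.Agent.SpecialGL

attribute [-instance] CategoryTheory.Hom.commGroup

/-- Every fpqc torsor under the group is Zariski locally trivial. -/
def IsSpecial {S : Scheme.{u}} (N : Over S) [GrpObj N] : Prop :=
  ∀ (X Y : Over S) (b : AlgGrp.Action N X) (ψ : X ⟶ Y),
    IsPullback b.act (snd N X) ψ ψ →
    NonAbH1.IsLocallyTrivialFor Scheme.fpqcPrecoverage (Over.mk ψ.left : Over Y.left) →
    NonAbH1.IsLocallyTrivialFor Scheme.zariskiPrecoverage (Over.mk ψ.left : Over Y.left)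

theorem exists_open_of_zariski {S : Scheme.{u}} {X : Over S}
    (h : NonAbH1.IsLocallyTrivialFor Scheme.zariskiPrecoverage X) (y : S) :
    ∃ (U : S.Opens) (_ : y ∈ U) (s : (U : Scheme.{u}) ⟶ X.left), s ≫ X.hom = U.ι := by
  obtain ⟨R, hR, hsec⟩ := h
  obtain ⟨κ, Z, f, rfl⟩ := R.exists_eq_ofArrows
  let E0 : PreZeroHypercover S := { I₀ := κ, X := Z, f := f }
  obtain ⟨hcov, himm⟩ := (Scheme.presieve₀_mem_precoverage_iff E0).mp hR
  obtain ⟨i, hi⟩ := hcov y
  haveI : IsOpenImmersion (f i) := himm i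
  obtain ⟨s, hs⟩ := hsec (f i) (Presieve.ofArrows.mk i)
  refine ⟨(f i).opensRange, hi, (f i).isoOpensRange.inv ≫ s, ?_⟩
  rw [Category.assoc, hs]
  exact (f i).isoOpensRange_inv_comp

/-- An extension of special groups is special. -/
theorem isSpecial_of_extension {S : Scheme.{u}} {G N Q : Over S} [GrpObj G] [GrpObj N] [GrpObj Q]
    [IsAffineHom G.hom] [Flat G.hom] [IsAffineHom N.hom] [Flat N.hom] [IsAffineHom Q.hom] [Flat Q.hom]
    (iN : N ⟶ G) [IsMonHom iN] [Mono iN] (q : G ⟶ Q) [IsMonHom q] [SchDesc.IsFpqc q.left]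
    (hker : AlgGrp.IsKernel iN q) (hN : IsSpecial N) (hQ : IsSpecial Q) : IsSpecial G := by
  intro X Y a φ hcart hloc
  haveI := AssocBundle.isFpqc_of_torsor a φ hcart hloc
  obtain ⟨haff, -⟩ := GitTorsor.isAffineHom_and_isGeomQuot a φ hcart hloc
  haveI := haff
  let c := a.prod (AssocBundle.cosetAction q)
  haveI : IsAffineHom (fst X Q).left := AssocBundle.isAffineHom_fst X Q
  obtain ⟨R, qq, r, hqr, hsq, hqfp, hqc⟩ :=
    AssocBundle.exists_quotient hcart (fst X Q) c (AssocBundle.prod_act_fst a _)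
  haveI := hqfp
  haveI : Epi qq := TorsorPush.epi_of_isFpqc qq
  have hsq' : IsPullback (fst X Q) qq φ r := IsPullback.of_map_of_faithful (Over.forget _) hsq
  have hpair : ∀ {T : Over S} (w : T ⟶ X ⊗ Q), w = lift (w ≫ fst X Q) (w ≫ snd X Q) := fun w => by
    rw [← comp_lift, lift_fst_snd, Category.comp_id]
  have huniq : ∀ {T : Over S} (x : T ⟶ X) (u u' : T ⟶ Q), lift x u ≫ qq = lift x u' ≫ qq → u = u' := by
    intro T x u u' e
    have := hsq'.hom_ext (show lift x u ≫ fst X Q = lift x u' ≫ fst X Q by rw [lift_fst, lift_fst]) e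
    simpa using congrArg (· ≫ snd X Q) this
  have hmove : ∀ {T : Over S} (g : T ⟶ G) (x : T ⟶ X) (u : T ⟶ Q),
      lift (lift g x ≫ a.act) (u * (g ≫ q)⁻¹) ≫ qq = lift x u ≫ qq := by
    intro T g x u
    rw [← AssocBundle.lift_cosetAction, ← AlgGrp.Action.lift_prod_act, Category.assoc, hqc.w, lift_snd_assoc]
  -- the action of `Q`
  let μ₀ : Q ⊗ (X ⊗ Q) ⟶ X ⊗ Q := lift (snd _ _ ≫ fst X Q) (fst _ _ * (snd _ _ ≫ snd X Q))
  have hμ₀ : ∀ {T : Over S} (t : T ⟶ Q) (x : T ⟶ X) (u : T ⟶ Q), lift t (lift x u) ≫ μ₀ = lift x (t * u) := by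
    intro T t x u
    simp [μ₀, MonObj.comp_mul]
  haveI := TorsorPush.isFpqc_whiskerLeft Q qq
  haveI := TorsorPush.epi_of_isFpqc (Q ◁ qq)
  obtain ⟨m, hm⟩ := TorsorPush.exists_desc (Q ◁ qq) (μ₀ ≫ qq) fun Z e₁ e₂ he => by
    have hf : e₁ ≫ fst Q _ = e₂ ≫ fst Q _ := by
      have := congrArg (fun m => m ≫ fst Q R) he
      simpa using this
    have hs : (e₁ ≫ snd Q _) ≫ qq = (e₂ ≫ snd Q _) ≫ qq := by
      have := congrArg (fun m => m ≫ snd Q R) he
      simpa using this
    have hd := AssocBundle.div_act hqc _ _ hs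
    generalize AssocBundle.div hqc _ _ hs = g at hd
    have hdec : ∀ e : Z ⟶ Q ⊗ (X ⊗ Q), e = lift (e ≫ fst _ _) (lift (e ≫ snd _ _ ≫ fst X Q) (e ≫ snd _ _ ≫ snd X Q)) := by
      intro e
      simp [← comp_lift]
    rw [hdec e₁, hdec e₂, ← Category.assoc, ← Category.assoc _ μ₀, hμ₀, hμ₀]
    rw [hpair (e₂ ≫ snd _ _), AlgGrp.Action.lift_prod_act, AssocBundle.lift_cosetAction] at hd
    have hd1 := congrArg (· ≫ fst X Q) hd
    have hd2 := congrArg (· ≫ snd X Q) hd
    simp only [lift_fst, lift_snd, Category.assoc] at hd1 hd2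
    rw [← hd1, ← hd2, hf, ← _root_.mul_assoc, hmove]
  have hm' : ∀ {T : Over S} (t : T ⟶ Q) (x : T ⟶ X) (u : T ⟶ Q),
      lift t (lift x u ≫ qq) ≫ m = lift x (t * u) ≫ qq := by
    intro T t x u
    rw [← lift_whiskerLeft_assoc, hm, ← Category.assoc, hμ₀]
  have hlift : ∀ {T : Over S} (w : T ⟶ R), ∃ (T' : Over S) (t : T' ⟶ T) (x : T' ⟶ X) (u : T' ⟶ Q),
      SchDesc.IsFpqc t.left ∧ lift x u ≫ qq = t ≫ w := fun w => by
    obtain ⟨T', t, e, ht, he⟩ := AssocBundle.exists_fpqc_lift qq w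
    exact ⟨T', t, _, _, ht, by rw [← hpair e, he]⟩
  have hone : ∀ {T : Over S} (w : T ⟶ R), lift 1 w ≫ m = w := by
    intro T w
    obtain ⟨T', t, x, u, ht, hx⟩ := hlift w
    haveI := ht
    haveI := TorsorPush.epi_of_isFpqc t
    rw [← cancel_epi t, comp_lift_assoc, MonObj.comp_one, ← hx, hm', _root_.one_mul]
  have hmul : ∀ {T : Over S} (g g' : T ⟶ Q) (w : T ⟶ R), lift (g * g') w ≫ m = lift g (lift g' w ≫ m) ≫ m := by
    intro T g g' w
    obtain ⟨T', t, x, u, ht, hx⟩ := hlift w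
    haveI := ht
    haveI := TorsorPush.epi_of_isFpqc t
    rw [← cancel_epi t, comp_lift_assoc, comp_lift_assoc, comp_lift_assoc, MonObj.comp_mul, ← hx, hm', hm', hm',
      _root_.mul_assoc]
  let aR : AlgGrp.Action Q R :=
    { act := m
      one_act := by
        apply AlgGrp.Action.hom_ext_lift₂
        intro T u p
        have hu : u ≫ η[Q] = 1 := by rw [Hom.one_def, toUnit_unique (toUnit T) u]
        rw [lift_whiskerRight_assoc, hu, hone, leftUnitor_hom, lift_snd]
      mul_act := by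
        apply AlgGrp.Action.hom_ext_lift₃
        intro T h h' x
        rw [lift_whiskerRight_assoc, ← Hom.mul_def, lift_lift_associator_hom_assoc, lift_whiskerLeft_assoc]
        exact hmul h h' x }
  have hRinv : aR.act ≫ r = snd Q R ≫ r := by
    rw [← cancel_epi (Q ◁ qq), ← Category.assoc, show (Q ◁ qq) ≫ aR.act = μ₀ ≫ qq from hm, Category.assoc, hqr,
      whiskerLeft_snd_assoc, hqr]
    simp [μ₀]
  have hfree : ∀ {T : Over S} (w : T ⟶ R) (t t' : T ⟶ Q), lift t w ≫ m = lift t' w ≫ m → t = t' := by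
    intro T w t t' e
    obtain ⟨T', k, x, u, hk, hx⟩ := hlift w
    haveI := hk
    haveI := TorsorPush.epi_of_isFpqc k
    have e' := congrArg (k ≫ ·) e
    simp only [comp_lift_assoc, ← hx, hm'] at e'
    exact (cancel_epi k).mp (mul_right_cancel (huniq x _ _ e'))
  have hex : ∀ s : PullbackCone r r, ∃ t : s.pt ⟶ Q, lift t s.snd ≫ m = s.fst := by
    intro s
    obtain ⟨T', k, x, hk, hx⟩ := AssocBundle.exists_fpqc_lift φ (s.snd ≫ r)
    haveI := hk
    obtain ⟨w, hw₁, hw₂⟩ := hsq'.exists_lift x (k ≫ s.fst) (by rw [hx, Category.assoc, s.condition])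
    obtain ⟨w', hw₁', hw₂'⟩ := hsq'.exists_lift x (k ≫ s.snd) (by rw [hx, Category.assoc])
    let t' := (w ≫ snd X Q) * (w' ≫ snd X Q)⁻¹
    have ht' : lift t' (k ≫ s.snd) ≫ m = k ≫ s.fst := by
      rw [← hw₂', hpair w', hw₁', hm', ← hw₂, inv_mul_cancel_right]
      conv_rhs => rw [hpair w, hw₁]
    clear_value t'
    obtain ⟨t, ht⟩ := TorsorPush.exists_desc k t' fun Z e₁ e₂ he => by
      refine hfree (e₁ ≫ k ≫ s.snd) _ _ ?_
      have h2 : e₁ ≫ k ≫ s.snd = e₂ ≫ k ≫ s.snd := by rw [← Category.assoc, he, Category.assoc]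
      conv_rhs => rw [h2]
      rw [← comp_lift_assoc, ← comp_lift_assoc, ht', reassoc_of% he]
    haveI := TorsorPush.epi_of_isFpqc k
    exact ⟨t, by rw [← cancel_epi k, comp_lift_assoc, ht, ht']⟩
  choose tR htR using hex
  have hcartR : IsPullback aR.act (snd Q R) r r := by
    refine IsPullback.of_isLimit' ⟨hRinv⟩ (PullbackCone.IsLimit.mk hRinv
      (fun s => lift (tR s) s.snd) htR (fun s => lift_snd _ _) fun s m' h h' => ?_)
    have e : m' = lift (m' ≫ fst Q R) s.snd := by
      rw [← h', ← comp_lift, lift_fst_snd, Category.comp_id]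
    refine e.trans ?_
    congr 1
    exact hfree s.snd _ _ (by rw [← e]; exact h.trans (htR s).symm)
  have hlocR : NonAbH1.IsLocallyTrivialFor Scheme.fpqcPrecoverage (Over.mk r.left : Over Y.left) := by
    obtain ⟨Rc, hRc, hsec⟩ := hloc
    refine ⟨Rc, hRc, fun S' g hg => ?_⟩
    obtain ⟨s, hs⟩ := hsec g hg
    refine ⟨s ≫ (lift (𝟙 X) (1 : X ⟶ Q) ≫ qq).left, ?_⟩
    have e : (lift (𝟙 X) (1 : X ⟶ Q) ≫ qq) ≫ r = φ := by
      rw [Category.assoc, hqr, lift_fst_assoc, Category.id_comp]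
    show (s ≫ _) ≫ r.left = g
    rw [Category.assoc, ← Over.comp_left, e]
    exact hs
  have hzR := hQ R Y aR r hcartR hlocR
  -- the reduction to `N`
  let κ : X ⟶ R := lift (𝟙 X) (1 : X ⟶ Q) ≫ qq
  have hι : ∀ {T : Over S} (x : T ⟶ X), x ≫ κ = lift x 1 ≫ qq := fun x => by
    show x ≫ lift (𝟙 X) (1 : X ⟶ Q) ≫ qq = _
    rw [← Category.assoc, comp_lift, Category.comp_id, MonObj.comp_one]
  have hιr : κ ≫ r = φ := by simp [κ, hqr]
  have hιact : (X ◁ q) ≫ qq = (lift (snd X G) (fst X G) ≫ a.act) ≫ κ := by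
    rw [hι]
    conv_lhs => rw [hpair (X ◁ q), whiskerLeft_fst, whiskerLeft_snd]
    rw [← hmove (snd X G) (fst X G) (snd X G ≫ q), mul_inv_cancel]
  haveI : IsAffineHom r.left := by
    refine TorsorDesc.prop_of_isFpqc @IsAffineHom FpqcDesc.isAffineHom_descends r.left φ.left ?_
    rw [← hsq.flip.isoPullback_inv_snd]
    infer_instance
  haveI : IsAffineHom κ.left := by
    haveI : IsAffineHom (κ.left ≫ r.left) := by rw [← Over.comp_left, hιr]; exact haff
    exact IsAffineHom.of_comp κ.left r.left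
  have hιfp : Flat κ.left ∧ Surjective κ.left := by
    let ρ : X ⊗ G ⟶ X ⊗ G := lift (lift (snd X G) (fst X G) ≫ a.act) (snd X G)
    haveI : IsIso ρ := by
      refine ⟨lift (lift (snd X G)⁻¹ (fst X G) ≫ a.act) (snd X G), ?_, ?_⟩ <;>
      · apply CartesianMonoidalCategory.hom_ext
        · simp only [ρ, Category.assoc, lift_fst, comp_lift_assoc, lift_snd, GrpObj.comp_inv, Category.id_comp]
          rw [← AlgGrp.Action.lift_mul_act]
          first
            | rw [mul_inv_cancel, AlgGrp.Action.lift_one_act]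
            | rw [inv_mul_cancel, AlgGrp.Action.lift_one_act]
        · simp [ρ]
    haveI : IsIso ρ.left := inferInstanceAs (IsIso ((Over.forget _).map ρ))
    haveI : Flat (fst X G).left := MorphismProperty.pullback_fst (P := @Flat) X.hom G.hom inferInstance
    haveI : Surjective (fst X G).left := by
      refine ⟨fun x => ⟨(lift (𝟙 X) (1 : X ⟶ G)).left x, ?_⟩⟩
      rw [← Scheme.Hom.comp_apply, ← Over.comp_left, lift_fst]
      rfl
    haveI := TorsorPush.isFpqc_whiskerLeft X q
    haveI : Flat (X ◁ q).left := inferInstance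
    haveI : Surjective (X ◁ q).left := inferInstance
    haveI : Flat qq.left := inferInstance
    haveI : Surjective qq.left := inferInstance
    have e : (ρ.left ≫ (fst X G).left) ≫ κ.left = (X ◁ q).left ≫ qq.left := by
      rw [← Over.comp_left, ← Over.comp_left, ← Over.comp_left, hιact]
      congr 2
      simp [ρ]
    haveI : Surjective ((ρ.left ≫ (fst X G).left) ≫ κ.left) := by rw [e]; infer_instance
    haveI : Flat ((ρ.left ≫ (fst X G).left) ≫ κ.left) := by rw [e]; infer_instance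
    exact ⟨FlatDescStalk.flat_of_comp (ρ.left ≫ (fst X G).left) κ.left,
      Surjective.of_comp (ρ.left ≫ (fst X G).left) κ.left⟩
  haveI := hιfp.1; haveI := hιfp.2
  have key : ∀ y : Y.left, ∃ (V : Y.left.Opens) (_ : y ∈ V) (s : (V : Scheme.{u}) ⟶ X.left), s ≫ φ.left = V.ι := by
    intro y
    obtain ⟨U, hy, σ₀, hσ₀⟩ := exists_open_of_zariski hzR y
    have hσ₀' : σ₀ ≫ r.left = U.ι := hσ₀
    let Uo : Over S := Over.mk (U.ι ≫ Y.hom)
    let σ : Uo ⟶ R := Over.homMk σ₀ (by
      show σ₀ ≫ R.hom = U.ι ≫ Y.hom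
      rw [← Over.w r, reassoc_of% hσ₀'])
    let X' := pullback κ σ
    have hinvN : ((N ◁ pullback.fst κ σ) ≫ (a.restrict iN).act) ≫ κ = (snd N X' ≫ pullback.snd κ σ) ≫ σ := by
      rw [Category.assoc _ (pullback.snd κ σ), ← pullback.condition]
      apply AlgGrp.Action.hom_ext_lift₂
      intro T n x
      simp only [lift_snd_assoc, Category.assoc, lift_whiskerLeft_assoc]
      rw [AlgGrp.Action.lift_restrict_act_assoc, ← Category.assoc _ a.act, hι, lift_snd_assoc, ← Category.assoc x, hι,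
        ← hmove (n ≫ iN) (x ≫ pullback.fst κ σ) 1]
      congr 2
      rw [Category.assoc, hker.w, Hom.one_def, ← Category.assoc, toUnit_unique (n ≫ toUnit N) (toUnit T)]
      simp [← Hom.one_def]
    let act' : N ⊗ X' ⟶ X' := pullback.lift ((N ◁ pullback.fst κ σ) ≫ (a.restrict iN).act)
      (snd N X' ≫ pullback.snd κ σ) hinvN
    have hact'f : ∀ {T : Over S} (n : T ⟶ N) (x : T ⟶ X'),
        (lift n x ≫ act') ≫ pullback.fst κ σ = lift n (x ≫ pullback.fst κ σ) ≫ (a.restrict iN).act := by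
      intro T n x
      simp only [act', Category.assoc, pullback.lift_fst, lift_whiskerLeft_assoc]
    have hact's : ∀ {T : Over S} (n : T ⟶ N) (x : T ⟶ X'),
        (lift n x ≫ act') ≫ pullback.snd κ σ = x ≫ pullback.snd κ σ := by
      intro T n x
      simp only [act', Category.assoc, pullback.lift_snd, lift_snd_assoc]
    let b : AlgGrp.Action N X' :=
      { act := act'
        one_act := by
          apply AlgGrp.Action.hom_ext_lift₂
          intro T u p
          have hu : u ≫ η[N] = 1 := by rw [Hom.one_def, toUnit_unique (toUnit T) u]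
          rw [lift_whiskerRight_assoc, hu, leftUnitor_hom, lift_snd]
          apply pullback.hom_ext
          · rw [hact'f, AlgGrp.Action.lift_one_act]
          · rw [hact's]
        mul_act := by
          apply AlgGrp.Action.hom_ext_lift₃
          intro T h h' x
          rw [lift_whiskerRight_assoc, ← Hom.mul_def, lift_lift_associator_hom_assoc, lift_whiskerLeft_assoc]
          apply pullback.hom_ext
          · rw [hact'f, hact'f, hact'f, AlgGrp.Action.lift_mul_act]
          · rw [hact's, hact's, hact's] }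
    let ψ : X' ⟶ Uo := pullback.snd κ σ
    have hbinv : b.act ≫ ψ = snd N X' ≫ ψ := pullback.lift_snd _ _ _
    have hexN : ∀ s : PullbackCone ψ ψ, ∃ n : s.pt ⟶ N, lift n s.snd ≫ b.act = s.fst := by
      intro s
      have h1 : (s.fst ≫ pullback.fst κ σ) ≫ κ = (s.snd ≫ pullback.fst κ σ) ≫ κ := by
        rw [Category.assoc, Category.assoc, pullback.condition, ← Category.assoc, ← Category.assoc]
        exact congrArg (· ≫ σ) s.condition
      have h2 : (s.fst ≫ pullback.fst κ σ) ≫ φ = (s.snd ≫ pullback.fst κ σ) ≫ φ := by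
        rw [← hιr, ← Category.assoc, h1, Category.assoc]
      let g := AssocBundle.div hcart _ _ h2
      have hg : lift g (s.snd ≫ pullback.fst κ σ) ≫ a.act = s.fst ≫ pullback.fst κ σ := AssocBundle.div_act hcart _ _ h2
      have hgq : g ≫ q = 1 := by
        rw [hι, hι, ← hg] at h1
        have := huniq _ _ _ (((hmove g (s.snd ≫ pullback.fst κ σ) (g ≫ q)).symm.trans
          (by rw [mul_inv_cancel]; exact h1)))
        exact this
      obtain ⟨n, hn, -⟩ := hker.exists_lift g (toUnit _) (by rw [hgq, Hom.one_def])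
      refine ⟨n, pullback.hom_ext ?_ ?_⟩
      · refine (hact'f n s.snd).trans ?_
        rw [AlgGrp.Action.lift_restrict_act, hn, hg]
      · exact (hact's n s.snd).trans s.condition.symm
    choose nX hnX using hexN
    have hcart' : IsPullback b.act (snd N X') ψ ψ := by
      refine IsPullback.of_isLimit' ⟨hbinv⟩ (PullbackCone.IsLimit.mk hbinv
        (fun s => lift (nX s) s.snd) hnX (fun s => lift_snd _ _) fun s m' h h' => ?_)
      have e : m' = lift (m' ≫ fst N X') s.snd := by
        rw [← h', ← comp_lift, lift_fst_snd, Category.comp_id]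
      refine e.trans ?_
      congr 1
      have e1 : (lift (m' ≫ fst N X') s.snd ≫ act') ≫ pullback.fst κ σ =
          (lift (nX s) s.snd ≫ act') ≫ pullback.fst κ σ :=
        congrArg (· ≫ pullback.fst κ σ) ((e ▸ h).trans (hnX s).symm)
      rw [hact'f, hact'f, AlgGrp.Action.lift_restrict_act, AlgGrp.Action.lift_restrict_act] at e1
      have hw : (lift (nX s ≫ iN) (s.snd ≫ pullback.fst κ σ) ≫ a.act) ≫ φ = (s.snd ≫ pullback.fst κ σ) ≫ φ := by
        rw [Category.assoc, hcart.w, lift_snd_assoc]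
      exact (cancel_mono iN).mp ((AssocBundle.div_eq hcart _ _ hw ((m' ≫ fst N X') ≫ iN) e1).symm.trans
        (AssocBundle.div_eq hcart _ _ hw (nX s ≫ iN) rfl))
    have hsqX : IsPullback (pullback.fst κ σ).left ψ.left κ.left σ.left :=
      (IsPullback.of_hasPullback κ σ).map (Over.forget _)
    haveI : Flat ψ.left := MorphismProperty.of_isPullback (P := @Flat) hsqX ‹_›
    haveI : Surjective ψ.left := MorphismProperty.of_isPullback (P := @Surjective) hsqX ‹_›
    haveI : IsAffineHom ψ.left := MorphismProperty.of_isPullback (P := @IsAffineHom) hsqX ‹_›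
    have hloc' : NonAbH1.IsLocallyTrivialFor Scheme.fpqcPrecoverage (Over.mk ψ.left : Over Uo.left) :=
      ⟨Presieve.singleton ψ.left, ψ.left.singleton_mem_fpqcPrecoverage, fun S' g hg => by
        cases hg; exact ⟨𝟙 _, Category.id_comp _⟩⟩
    obtain ⟨V₀, hyV, s, hs⟩ := exists_open_of_zariski (hN X' Uo b ψ hcart' hloc') ⟨y, hy⟩
    have hs' : s ≫ ψ.left = V₀.ι := hs
    refine ⟨U.ι ''ᵁ V₀, ⟨⟨y, hy⟩, hyV, rfl⟩, (U.ι.isoImage V₀).inv ≫ s ≫ (pullback.fst κ σ).left, ?_⟩
    have e : (pullback.fst κ σ).left ≫ φ.left = ψ.left ≫ U.ι := by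
      rw [← hιr, Over.comp_left, reassoc_of% hsqX.w, show σ.left ≫ r.left = U.ι from hσ₀']
    rw [Category.assoc, Category.assoc, e, reassoc_of% hs', Scheme.Hom.isoImage_inv_ι]
  choose V hV s hs using key
  let 𝒰 := Y.left.openCoverOfIsOpenCover V (TopologicalSpace.IsOpenCover.mk
    (top_le_iff.mp fun y _ => TopologicalSpace.Opens.mem_iSup.mpr ⟨y, hV y⟩))
  refine ⟨𝒰.presieve₀, 𝒰.mem₀, ?_⟩
  rintro S' f ⟨i⟩
  exact ⟨s i, hs i⟩

end Groth.Agent.SpecialGL
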