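import Groth.Agent.SpecialGLLib.Zariski
import Groth.Agent.SpecialGLLib.Extension
import Groth.Agent.SpecialGLLib.CocTrig
import Groth.Agent.ProjActLib.Basic
import Groth.Agent.Comodule.ConnDomain
import Groth.Agent.ASp.PropDescend
import Groth.Agent.S3266

/-!
# Connected solvable affine groups are special (characteristic zero)
-/

set_option autoImplicit false
set_option maxHeartbeats 1000000
set_option linter.style.haveILetI false
set_option backward.isDefEq.respectTransparency false
set_option backward.isDefEq.respectTransparency.types false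
universe u

open CategoryTheory CategoryTheory.Limits MonoidalCategory CartesianMonoidalCategory MonObj AlgebraicGeometry TensorProduct WithConv

namespace Groth.Agent.SpecialGL

noncomputable section

attribute [-instance] CategoryTheory.Hom.commGroup

/-- An fpqc torsor which has sections over local rings has sections locally for the Zariski topology. -/
theorem exists_open_section_of_local_sections {S : Scheme.{u}} {G : Over S} [GrpObj G] [IsAffineHom G.hom] [Flat G.hom]
    [LocallyOfFinitePresentation G.hom] {X Y : Over S} (a : AlgGrp.Action G X)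
    (φ : X ⟶ Y) (hcart : IsPullback a.act (snd G X) φ φ)
    (hloc : NonAbH1.IsLocallyTrivialFor Scheme.fpqcPrecoverage (Over.mk φ.left : Over Y.left))
    (H : ∀ (A B : Type u) [CommRing A] [CommRing B] [Algebra A B] [IsLocalRing A] [Module.FaithfullyFlat A B]
      (yA : Spec (CommRingCat.of A) ⟶ Y.left) (xB : Spec (CommRingCat.of B) ⟶ X.left),
      xB ≫ φ.left = Spec.map (CommRingCat.ofHom (algebraMap A B)) ≫ yA →
      ∃ s : Spec (CommRingCat.of A) ⟶ X.left, s ≫ φ.left = yA) (y : Y.left) :
    ∃ U : Y.left.Opens, y ∈ U ∧ NonAbH1.HasSectionOver (Over.mk φ.left : Over Y.left) U.ι := by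
  haveI := AssocBundle.isFpqc_of_torsor a φ hcart hloc
  obtain ⟨haff, hq⟩ := GitTorsor.isAffineHom_and_isGeomQuot a φ hcart hloc
  haveI := haff
  haveI : Surjective φ.left := ⟨hq.surj⟩
  haveI : Flat φ.left := prop_of_torsor a φ hcart @Flat inferInstance inferInstance
  haveI : LocallyOfFinitePresentation φ.left :=
    prop_of_torsor a φ hcart @LocallyOfFinitePresentation inferInstance inferInstance
  obtain ⟨V, hV, hyV, -⟩ := exists_isAffineOpen_mem_and_subset (U := ⊤) (show y ∈ (⊤ : Y.left.Opens) from trivial)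
  let W : X.left.Opens := φ.left ⁻¹ᵁ V
  have hW : IsAffineOpen W := hV.preimage φ.left
  let A' : Type u := Γ(Y.left, V)
  let B' : Type u := Γ(X.left, W)
  let f := φ.left.appLE V W le_rfl
  algebraize [f.hom]
  haveI : Algebra.FinitePresentation A' B' := φ.left.finitePresentation_appLE hV hW le_rfl
  haveI : Module.Flat A' B' := φ.left.flat_appLE hV hW le_rfl
  haveI : Module.FaithfullyFlat A' B' := by
    apply Module.FaithfullyFlat.of_comap_surjective
    intro P
    obtain ⟨x, hx⟩ := φ.left.surjective (hV.fromSpec P)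
    have hmem : hV.fromSpec P ∈ V := by
      rw [← SetLike.mem_coe, ← hV.range_fromSpec]; exact ⟨P, rfl⟩
    have hxW : x ∈ Set.range hW.fromSpec := by
      rw [hW.range_fromSpec]; show φ.left x ∈ V; rwa [hx]
    obtain ⟨Q, rfl⟩ := hxW
    refine ⟨Q, hV.fromSpec.isOpenEmbedding.injective ?_⟩
    refine Eq.trans ?_ hx
    exact congrArg (fun m => m Q) (IsAffineOpen.SpecMap_appLE_fromSpec φ.left hV hW le_rfl)
  let p := hV.primeIdealOf ⟨y, hyV⟩
  let A : Type u := Localization.AtPrime p.asIdeal
  let B : Type u := A ⊗[A'] B'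
  let yA : Spec (CommRingCat.of A) ⟶ Y.left := Spec.map (CommRingCat.ofHom (algebraMap A' A)) ≫ hV.fromSpec
  let xB : Spec (CommRingCat.of B) ⟶ X.left :=
    Spec.map (CommRingCat.ofHom (Algebra.TensorProduct.includeRight : B' →ₐ[A'] B).toRingHom) ≫ hW.fromSpec
  have hf : CommRingCat.ofHom (algebraMap A' B') = f := rfl
  have h : xB ≫ φ.left = Spec.map (CommRingCat.ofHom (algebraMap A B)) ≫ yA := by
    simp only [xB, yA, Category.assoc]
    rw [← IsAffineOpen.SpecMap_appLE_fromSpec φ.left hV hW le_rfl, ← Category.assoc, ← Category.assoc,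
      ← Spec.map_comp, ← Spec.map_comp]
    congr 2
    show f ≫ CommRingCat.ofHom _ = CommRingCat.ofHom (algebraMap A' A) ≫ CommRingCat.ofHom (algebraMap A B)
    rw [← hf, ← CommRingCat.ofHom_comp, ← CommRingCat.ofHom_comp]
    congr 1
    ext r
    exact (Algebra.TensorProduct.includeRight.commutes r).trans (IsScalarTower.algebraMap_apply A' A B r)
  obtain ⟨s, hs⟩ := H A B yA xB h
  have hsW : Set.range s ⊆ Set.range hW.fromSpec := by
    rintro _ ⟨z, rfl⟩
    rw [hW.range_fromSpec]
    show φ.left (s z) ∈ V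
    rw [← Scheme.Hom.comp_apply, hs, ← SetLike.mem_coe, ← hV.range_fromSpec]
    exact ⟨_, (Scheme.Hom.comp_apply _ _ z).symm⟩
  let σ₀ := IsOpenImmersion.lift hW.fromSpec s hsW
  obtain ⟨σ, hσ⟩ : ∃ σ, Spec.map σ = σ₀ := ⟨_, Spec.map_preimage _⟩
  have hσ' : f ≫ σ = CommRingCat.ofHom (algebraMap A' A) := by
    apply Spec.map_injective
    rw [← cancel_mono hV.fromSpec, Spec.map_comp, Category.assoc,
      IsAffineOpen.SpecMap_appLE_fromSpec φ.left hV hW le_rfl, ← Category.assoc, hσ,
      IsOpenImmersion.lift_fac, hs]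
  obtain ⟨g, hg, τ, -⟩ := SpreadLib.exists_lift_away (R := A') (S := B') (T := A') p.asIdeal
    ({ σ.hom with commutes' := fun r => congrArg (fun m => (CommRingCat.Hom.hom m) r) hσ' } : B' →ₐ[A'] A)
  let j : Spec (CommRingCat.of (Localization.Away g)) ⟶ Y.left :=
    Spec.map (CommRingCat.ofHom (algebraMap A' (Localization.Away g))) ≫ hV.fromSpec
  haveI : IsOpenImmersion (Spec.map (CommRingCat.ofHom (algebraMap A' (Localization.Away g)))) :=
    IsOpenImmersion.of_isLocalization g
  haveI : IsOpenImmersion j := inferInstanceAs (IsOpenImmersion (_ ≫ hV.fromSpec))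
  refine ⟨j.opensRange, ?_, ?_⟩
  · have hpg : p ∈ Set.range (PrimeSpectrum.comap (algebraMap A' (Localization.Away g))) := by
      rw [PrimeSpectrum.localization_away_comap_range _ g]; exact hg
    obtain ⟨q, hq'⟩ := hpg
    refine ⟨q, ?_⟩
    exact (congrArg (fun t => hV.fromSpec t) hq').trans (hV.fromSpec_primeIdealOf ⟨y, hyV⟩)
  · refine ⟨j.isoOpensRange.inv ≫ Spec.map (CommRingCat.ofHom τ.toRingHom) ≫ hW.fromSpec, ?_⟩
    show (_ ≫ _ ≫ _) ≫ φ.left = _
    rw [Category.assoc, Category.assoc, ← IsAffineOpen.SpecMap_appLE_fromSpec φ.left hV hW le_rfl,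
      ← Category.assoc (Spec.map _), ← Spec.map_comp]
    have e : f ≫ CommRingCat.ofHom τ.toRingHom = CommRingCat.ofHom (algebraMap A' (Localization.Away g)) :=
      CommRingCat.hom_ext (RingHom.ext τ.commutes)
    show j.isoOpensRange.inv ≫ Spec.map (f ≫ _) ≫ hV.fromSpec = _
    rw [e]
    show j.isoOpensRange.inv ≫ j = _
    exact j.isoOpensRange_inv_comp


section Field

open Hopf (Coc CocSplit push)
open Groth.Agent.DynLib (groupPoints)

variable {k : Type u} [Field k] {G : Over (Spec (CommRingCat.of k))} [GrpObj G]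
  {A : Type u} [CommRing A] [HopfAlgebra k A] (e : CoactBr.sp k A ≅ G) [IsMonHom e.hom]

/-- The point of `G` given by an algebra map. -/
def gpt {T : Type u} [CommRing T] [Algebra k T] (x : WithConv (A →ₐ[k] T)) : CoactBr.sp k T ⟶ G :=
  CoactBr.pt x.ofConv ≫ e.hom

theorem gpt_mul {T : Type u} [CommRing T] [Algebra k T] (x y : WithConv (A →ₐ[k] T)) :
    gpt e (x * y) = gpt e x * gpt e y := by
  rw [gpt, gpt, gpt, ← MonObj.mul_comp, CoactBr.pt_mul_pt]
  congr 2
  exact AlgHom.ext fun a => AlgHom.convMul_apply x y a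

theorem gpt_injective {T : Type u} [CommRing T] [Algebra k T] :
    Function.Injective (gpt e (T := T)) := fun x y h =>
  WithConv.ofConv_injective (CoactBr.pt_injective ((cancel_mono e.hom).mp h))

theorem gpt_one {T : Type u} [CommRing T] [Algebra k T] : gpt e (1 : WithConv (A →ₐ[k] T)) = 1 :=
  (mul_eq_left (a := gpt e (1 : WithConv (A →ₐ[k] T)))).mp (by rw [← gpt_mul, _root_.one_mul])

/-- The points of `G` as a monoid homomorphism. -/
def gptHom (T : Type u) [CommRing T] [Algebra k T] : WithConv (A →ₐ[k] T) →* (CoactBr.sp k T ⟶ G) where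
  toFun := gpt e
  map_one' := gpt_one e
  map_mul' := gpt_mul e

omit [GrpObj G] [IsMonHom e.hom] in
theorem exists_eq_gpt {T : Type u} [CommRing T] [Algebra k T] (g : CoactBr.sp k T ⟶ G) :
    ∃ x : WithConv (A →ₐ[k] T), gpt e x = g := by
  obtain ⟨x, hx⟩ := ProjActLib.exists_pt (g ≫ e.inv)
  exact ⟨toConv x, by rw [gpt, ofConv_toConv, hx, Category.assoc, Iso.inv_hom_id, Category.comp_id]⟩

omit [GrpObj G] [IsMonHom e.hom] in
theorem gpt_push {T T' : Type u} [CommRing T] [Algebra k T] [CommRing T'] [Algebra k T'] (g : T →ₐ[k] T')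
    (x : WithConv (A →ₐ[k] T)) : gpt e (push g x) = CoactBr.pt g ≫ gpt e x := by
  rw [gpt, gpt, push, ofConv_toConv, CoactBr.pt_comp, Category.assoc]

include e in
/-- A torsor under a group with split cocycles has sections over local rings. -/
theorem exists_section_of_cocSplit {X Y : Over (Spec (CommRingCat.of k))}
    {a : AlgGrp.Action G X} {φ : X ⟶ Y} (hcart : IsPullback a.act (snd G X) φ φ)
    {R B : Type u} [CommRing R] [CommRing B] [Algebra R B] [Module.FaithfullyFlat R B]
    (hA : ∀ [Algebra k R], Hopf.CocSplitOn k A R)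
    (yA : Spec (CommRingCat.of R) ⟶ Y.left) (xB : Spec (CommRingCat.of B) ⟶ X.left)
    (h : xB ≫ φ.left = Spec.map (CommRingCat.ofHom (algebraMap R B)) ≫ yA) :
    ∃ s : Spec (CommRingCat.of R) ⟶ X.left, s ≫ φ.left = yA := by
  obtain ⟨str, hstr⟩ : ∃ f, Spec.map f = yA ≫ Y.hom := ⟨_, Spec.map_preimage _⟩
  letI : Algebra k R := str.hom.toAlgebra
  have hstr' : yA ≫ Y.hom = Spec.map (CommRingCat.ofHom (algebraMap k R)) := hstr.symm
  letI : Algebra k B := Algebra.compHom B (algebraMap k R)
  haveI : IsScalarTower k R B := IsScalarTower.of_algebraMap_eq fun _ => rfl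
  have hover : ∀ {T : Type u} [CommRing T] [Algebra k T] [Algebra R T] [IsScalarTower k R T] (p : B →ₐ[R] T),
      (Spec.map (CommRingCat.ofHom p.toRingHom) ≫ xB) ≫ X.hom =
        Spec.map (CommRingCat.ofHom (algebraMap k T)) := by
    intro T _ _ _ _ p
    rw [Category.assoc, ← Over.w φ, reassoc_of% h, hstr', ← Spec.map_comp, ← Spec.map_comp,
      ← CommRingCat.ofHom_comp, ← CommRingCat.ofHom_comp]
    congr 2
    exact RingHom.ext fun r => (p.commutes _).trans (IsScalarTower.algebraMap_apply k R T r).symm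
  let tp : ∀ {T : Type u} [CommRing T] [Algebra k T] [Algebra R T] [IsScalarTower k R T],
      (B →ₐ[R] T) → (CoactBr.sp k T ⟶ X) :=
    fun {T} _ _ _ _ p => Over.homMk (Spec.map (CommRingCat.ofHom p.toRingHom) ≫ xB) (hover p)
  have htpφ : ∀ {T : Type u} [CommRing T] [Algebra k T] [Algebra R T] [IsScalarTower k R T] (p q : B →ₐ[R] T),
      tp p ≫ φ = tp q ≫ φ := by
    intro T _ _ _ _ p q
    apply Over.OverMorphism.ext
    show (Spec.map _ ≫ xB) ≫ φ.left = (Spec.map _ ≫ xB) ≫ φ.left
    rw [Category.assoc, Category.assoc, h, ← Category.assoc, ← Category.assoc, specMap_algHom, specMap_algHom]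
  have htmap : ∀ {T T' : Type u} [CommRing T] [Algebra k T] [Algebra R T] [IsScalarTower k R T] [CommRing T']
      [Algebra k T'] [Algebra R T'] [IsScalarTower k R T'] (g : T →ₐ[R] T') (p : B →ₐ[R] T),
      CoactBr.pt (g.restrictScalars k) ≫ tp p = tp (g.comp p) := by
    intro T T' _ _ _ _ _ _ _ _ g p
    apply Over.OverMorphism.ext
    show Spec.map (CommRingCat.ofHom g.toRingHom) ≫ Spec.map (CommRingCat.ofHom p.toRingHom) ≫ xB =
      Spec.map (CommRingCat.ofHom (g.comp p).toRingHom) ≫ xB
    rw [← Category.assoc, ← Spec.map_comp, ← CommRingCat.ofHom_comp]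
    rfl
  let D : ∀ {T : Type u} [CommRing T] [Algebra k T] [Algebra R T] [IsScalarTower k R T],
      (B →ₐ[R] T) → (B →ₐ[R] T) → WithConv (A →ₐ[k] T) :=
    fun {T} _ _ _ _ p q => (exists_eq_gpt e (AssocBundle.div hcart (tp p) (tp q) (htpφ p q))).choose
  have hD : ∀ {T : Type u} [CommRing T] [Algebra k T] [Algebra R T] [IsScalarTower k R T] (p q : B →ₐ[R] T),
      lift (gpt e (D p q)) (tp q) ≫ a.act = tp p := by
    intro T _ _ _ _ p q
    rw [(exists_eq_gpt e (AssocBundle.div hcart (tp p) (tp q) (htpφ p q))).choose_spec]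
    exact AssocBundle.div_act hcart _ _ _
  have hDeq : ∀ {T : Type u} [CommRing T] [Algebra k T] [Algebra R T] [IsScalarTower k R T] (p q : B →ₐ[R] T)
      (x : WithConv (A →ₐ[k] T)), lift (gpt e x) (tp q) ≫ a.act = tp p → D p q = x := fun {T} _ _ _ _ p q x hx =>
    gpt_injective e (((exists_eq_gpt e (AssocBundle.div hcart (tp p) (tp q) (htpφ p q))).choose_spec).trans
      (AssocBundle.div_eq hcart _ _ _ _ hx))
  let c : Coc k A R B :=
    { D := fun p q => D p q
      nat := by
        intro T T' _ _ _ _ _ _ _ _ g p q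
        apply hDeq
        show lift (gpt e (push (g.restrictScalars k) (D p q))) _ ≫ a.act = _
        rw [gpt_push, ← htmap, ← htmap, ← comp_lift, Category.assoc, hD]
      mul := by
        intro T _ _ _ _ p q r
        symm
        apply hDeq
        rw [gpt_mul, AlgGrp.Action.lift_mul_act, hD, hD] }
  obtain ⟨B', _, _, _, _, _, f, u, hu⟩ := hA B c
  let q : CoactBr.sp k B' ⟶ X := lift (gpt e u⁻¹) (tp f) ≫ a.act
  have hq : ∀ {T : Type u} [CommRing T] [Algebra k T] [Algebra R T] [IsScalarTower k R T] (g₁ g₂ : B' →ₐ[R] T),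
      CoactBr.pt (g₁.restrictScalars k) ≫ q = CoactBr.pt (g₂.restrictScalars k) ≫ q := by
    intro T _ _ _ _ g₁ g₂
    simp only [q, comp_lift_assoc, ← gpt_push, htmap]
    rw [← hD (g₁.comp f) (g₂.comp f), ← AlgGrp.Action.lift_mul_act, ← gpt_mul]
    congr 3
    have h1 : D (g₁.comp f) (g₂.comp f) * push (g₂.restrictScalars k) u = push (g₁.restrictScalars k) u := hu T g₁ g₂
    rw [Hopf.push_inv, Hopf.push_inv, inv_mul_eq_iff_eq_mul, eq_mul_inv_iff_mul_eq]
    exact h1
  let p := Spec.map (CommRingCat.ofHom (algebraMap R B'))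
  haveI : Flat p := by
    rw [Flat.SpecMap_iff, CommRingCat.hom_ofHom, RingHom.flat_algebraMap_iff]; infer_instance
  haveI : Surjective p := ⟨PrimeSpectrum.comap_surjective_of_faithfullyFlat⟩
  haveI : EffectiveEpi p := inferInstance
  haveI : IsScalarTower k R (B' ⊗[R] B') := TensorProduct.isScalarTower_left
  have hdesc : ∀ {Z : Scheme.{u}} (g₁ g₂ : Z ⟶ Spec (CommRingCat.of B')), g₁ ≫ p = g₂ ≫ p →
      g₁ ≫ q.left = g₂ ≫ q.left := by
    intro Z g₁ g₂ e'
    let l : Z ⟶ Spec (CommRingCat.of (B' ⊗[R] B')) := pullback.lift g₁ g₂ e' ≫ (pullbackSpecIso R B' B').hom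
    have e1 : g₁ = l ≫ Spec.map (CommRingCat.ofHom (ι₁ (A := R) (B := B')).toRingHom) := by
      rw [Category.assoc]
      have := (Iso.eq_inv_comp (pullbackSpecIso R B' B')).mp (pullbackSpecIso_inv_fst R B' B').symm
      exact (pullback.lift_fst g₁ g₂ e').symm.trans (congrArg (pullback.lift g₁ g₂ e' ≫ ·) this.symm)
    have e2 : g₂ = l ≫ Spec.map (CommRingCat.ofHom (ι₂ (A := R) (B := B')).toRingHom) := by
      rw [Category.assoc]
      have := (Iso.eq_inv_comp (pullbackSpecIso R B' B')).mp (pullbackSpecIso_inv_snd R B' B').symm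
      exact (pullback.lift_snd g₁ g₂ e').symm.trans (congrArg (pullback.lift g₁ g₂ e' ≫ ·) this.symm)
    rw [e1, e2, Category.assoc, Category.assoc]
    exact congrArg (l ≫ ·) (congrArg (fun m => m.left) (hq (ι₁ (A := R) (B := B')) ι₂))
  refine ⟨EffectiveEpi.desc p q.left hdesc, ?_⟩
  rw [← cancel_epi p, EffectiveEpi.fac_assoc]
  have hφ : q ≫ φ = tp f ≫ φ := by
    simp only [q, Category.assoc, hcart.w, lift_snd_assoc]
  refine (congrArg (fun m => m.left) hφ).trans ?_
  show (Spec.map _ ≫ xB) ≫ φ.left = _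
  rw [Category.assoc, h, ← Category.assoc, specMap_algHom]

include e in
theorem isSpecial_of_cocSplit [IsAffineHom G.hom] [Flat G.hom] [LocallyOfFinitePresentation G.hom]
    (hA : CocSplit k A) : IsSpecial G := by
  intro X Y a φ hcart hloc
  choose U hU hsec using exists_open_section_of_local_sections a φ hcart hloc
    (fun R B _ _ _ _ _ yA xB h => exists_section_of_cocSplit e hcart (hA R) yA xB h)
  let 𝒰 := Y.left.openCoverOfIsOpenCover U (TopologicalSpace.IsOpenCover.mk
    (top_le_iff.mp fun y _ => TopologicalSpace.Opens.mem_iSup.mpr ⟨y, hU y⟩))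
  refine ⟨𝒰.presieve₀, 𝒰.mem₀, ?_⟩
  rintro S' f ⟨i⟩
  exact hsec i

theorem eq_zero_or_one_of_connectedSpace {A : Type u} [CommRing A] [PreconnectedSpace (PrimeSpectrum A)] (x : A)
    (hx : IsIdempotentElem x) : x = 0 ∨ x = 1 := by
  rcases isClopen_iff.mp (PrimeSpectrum.isClopen_iff.mpr ⟨x, hx, rfl⟩ :
      IsClopen (↑(PrimeSpectrum.basicOpen x) : Set (PrimeSpectrum A))) with h | h
  · left
    have hb : PrimeSpectrum.basicOpen x = ⊥ := SetLike.coe_injective h
    obtain ⟨n, hn⟩ := (PrimeSpectrum.basicOpen_eq_bot_iff x).mp hb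
    rcases n with _ | n
    · rw [pow_zero] at hn
      exact (mul_one x).symm.trans (by rw [hn, mul_zero])
    · rwa [hx.pow_succ_eq] at hn
  · right
    have hu : IsUnit x := by
      by_contra hnu
      obtain ⟨m, hm, hxm⟩ := exists_max_ideal_of_mem_nonunits hnu
      have : (⟨m, hm.isPrime⟩ : PrimeSpectrum A) ∈ (PrimeSpectrum.basicOpen x : Set (PrimeSpectrum A)) := h ▸ Set.mem_univ _
      exact this hxm
    exact (IsIdempotentElem.iff_eq_one_of_isUnit hu).mp hx

/-- A connected solvable affine group in characteristic zero is special. -/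
theorem isSpecial_of_isSolvable [IsAlgClosed k] [CharZero k] (G : Over (Spec (CommRingCat.of k))) [GrpObj G]
    [IsAffine G.left] [LocallyOfFiniteType G.hom] [Smooth G.hom] [ConnectedSpace G.left]
    (hsolv : Red.IsSolvableGrp G) : IsSpecial G := by
  obtain ⟨⟨A⟩, ⟨i⟩⟩ := (essImage_hopfSpec (G := (⟨G⟩ : Grp (Over (Spec (CommRingCat.of k)))))).2 ‹IsAffine G.left›
  let e : CoactBr.sp k A ≅ G := (Grp.forget _).mapIso i
  haveI : IsMonHom e.hom := inferInstanceAs (IsMonHom i.hom.hom.hom)
  haveI : IsIso e.hom.left := inferInstance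
  haveI : IsReduced G.left := ASp.isReduced_of_smooth G.hom
  haveI : _root_.IsReduced A := by
    haveI : IsReduced (Spec (CommRingCat.of A)) := isReduced_of_isOpenImmersion e.hom.left
    exact affine_isReduced_iff (CommRingCat.of A) |>.mp inferInstance
  haveI : Algebra.FiniteType k A := by
    have h1 : LocallyOfFiniteType (CoactBr.sp k A).hom := by
      rw [← Over.w e.hom]; infer_instance
    exact RingHom.finiteType_algebraMap.mp
      ((HasRingHomProperty.Spec_iff (P := @LocallyOfFiniteType)).mp h1)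
  haveI : PreconnectedSpace (PrimeSpectrum A) := by
    haveI : PreconnectedSpace G.left := inferInstance
    exact (e.inv.left.homeomorph.surjective.connectedSpace e.inv.left.continuous).toPreconnectedSpace
  have hconn := eq_zero_or_one_of_connectedSpace (A := A)
  haveI : IsDomain A := Comodule.ConnDomain.isDomain_of_connected k hconn
  haveI : Group.IsSolvable (WithConv (A →ₐ[k] k)) := by
    obtain ⟨n, hn⟩ := hsolv
    haveI : Group.IsSolvable (CoactBr.sp k k ⟶ G) := ⟨⟨n, hn _⟩⟩
    exact Group.isSolvable_of_isSolvable_injective (f := gptHom e k) (gpt_injective e)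
  exact isSpecial_of_cocSplit e (Hopf.cocSplit_of_isTrigonalizable (Groth.Agent.S3266.result k A hconn))

end Field

end

end Groth.Agent.SpecialGL
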