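import Groth.Agent.SpecialGLLib.CommSpecial

/-!
# An action of a base-changed group seen over the base
-/

set_option autoImplicit false
set_option maxHeartbeats 1000000
set_option linter.style.haveILetI false
set_option backward.isDefEq.respectTransparency false
set_option backward.isDefEq.respectTransparency.types false
universe u

open CategoryTheory CategoryTheory.Limits MonoidalCategory CartesianMonoidalCategory MonObj AlgebraicGeometry

namespace Groth.Agent.SpecialGL

noncomputable section

attribute [-instance] CategoryTheory.Hom.commGroup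

variable {S Y : Scheme.{u}} (q : Y ⟶ S) {L : Over S} [GrpObj L]

/-- Points of the base change. -/
abbrev toBc (T : Over Y) (t : (Over.map q).obj T ⟶ L) : T ⟶ Red.bc q L := (Over.mapPullbackAdj q).homEquiv T L t

theorem homEquiv_mul (T : Over Y) (t t' : (Over.map q).obj T ⟶ L) :
    toBc q T (t * t') = toBc q T t * toBc q T t' := by
  simp only [Adjunction.homEquiv_unit]
  rw [CategoryTheory.Functor.map_mul, MonObj.comp_mul]

theorem homEquiv_one (T : Over Y) : toBc q T (1 : (Over.map q).obj T ⟶ L) = 1 :=
  (mul_eq_left (a := toBc q T (1 : (Over.map q).obj T ⟶ L))).mp (by rw [← homEquiv_mul, _root_.one_mul])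

variable {X : Scheme.{u}} (π : X ⟶ Y)

/-- `X` as an object over the base. -/
abbrev down : Over S := (Over.map q).obj (Over.mk π)

variable (L) in
/-- The product with the base group, over `Y`. -/
abbrev prodUp : Over Y := Over.mk ((snd L (down q π)).left ≫ π)

variable (L) in
/-- The product with the base group, seen over the base. -/
def prodIso : L ⊗ down q π ≅ (Over.map q).obj (prodUp q L π) :=
  Over.isoMk (Iso.refl _) ((Category.id_comp _).trans ((Category.assoc _ _ _).trans (Over.w (snd L (down q π)))))

variable {π} (a : AlgGrp.Action (Red.bc q L) (Over.mk π))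

/-- The action morphism over the base. -/
def downAct : L ⊗ down q π ⟶ down q π :=
  (prodIso q L π).hom ≫ (Over.map q).map
    (lift (toBc q (prodUp q L π) ((prodIso q L π).inv ≫ fst L (down q π)))
      (Over.homMk (snd L (down q π)).left rfl : prodUp q L π ⟶ Over.mk π) ≫ a.act)

theorem lift_downAct (T : Over Y) (t : (Over.map q).obj T ⟶ L) (x : T ⟶ Over.mk π) :
    lift t ((Over.map q).map x) ≫ downAct q a = (Over.map q).map (lift (toBc q T t) x ≫ a.act) := by
  have hs : (lift t ((Over.map q).map x)).left ≫ (snd L (down q π)).left = x.left := by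
    rw [← Over.comp_left, lift_snd]; rfl
  let ψ : T ⟶ prodUp q L π :=
    Over.homMk (lift t ((Over.map q).map x)).left (by
      show _ ≫ _ ≫ π = _
      rw [reassoc_of% hs]; exact Over.w x)
  have h1 : lift t ((Over.map q).map x) ≫ (prodIso q L π).hom = (Over.map q).map ψ :=
    Over.OverMorphism.ext (Category.comp_id _)
  rw [downAct, reassoc_of% h1, ← CategoryTheory.Functor.map_comp, ← Category.assoc, comp_lift]
  congr 3
  · rw [← Adjunction.homEquiv_naturality_left]
    congr 1
    rw [← h1, Category.assoc, Iso.hom_inv_id_assoc, lift_fst]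
  · exact Over.OverMorphism.ext hs

/-- Any object over the base mapping to `X` comes from an object over `Y`. -/
theorem exists_iso_map {T : Over S} (x : T ⟶ down q π) :
    ∃ (T' : Over Y) (e : (Over.map q).obj T' ≅ T) (x' : T' ⟶ Over.mk π), e.hom ≫ x = (Over.map q).map x' :=
  ⟨Over.mk (x.left ≫ π), Over.isoMk (Iso.refl _)
    ((Category.id_comp _).trans ((Over.w x).symm.trans (Category.assoc _ _ _).symm)),
    Over.homMk x.left rfl, Over.OverMorphism.ext (Category.id_comp _)⟩

/-- The action over the base. -/
def downAction : AlgGrp.Action L (down q π) where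
  act := downAct q a
  one_act := by
    apply AlgGrp.Action.hom_ext_lift₂
    intro T v p
    have hv : v ≫ η[L] = 1 := by rw [Hom.one_def, toUnit_unique (toUnit T) v]
    rw [lift_whiskerRight_assoc, hv, leftUnitor_hom, lift_snd]
    obtain ⟨T', e, x', hx⟩ := exists_iso_map q p
    rw [← cancel_epi e.hom, comp_lift_assoc, MonObj.comp_one, hx, lift_downAct, homEquiv_one,
      AlgGrp.Action.lift_one_act]
  mul_act := by
    apply AlgGrp.Action.hom_ext_lift₃
    intro T h h' x
    rw [lift_whiskerRight_assoc, ← Hom.mul_def, lift_lift_associator_hom_assoc, lift_whiskerLeft_assoc]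
    obtain ⟨T', e, x', hx⟩ := exists_iso_map q x
    rw [← cancel_epi e.hom, comp_lift_assoc, MonObj.comp_mul, comp_lift_assoc, hx, lift_downAct, comp_lift_assoc,
      hx, lift_downAct, lift_downAct, homEquiv_mul, AlgGrp.Action.lift_mul_act]

/-- The projection to `Y`, over the base. -/
abbrev downProj (π : X ⟶ Y) : down q π ⟶ Over.mk q := Over.homMk π rfl

theorem isPullback_downAction (htors : IsIso (lift a.act (snd (Red.bc q L) (Over.mk π)))) :
    IsPullback (downAction q a).act (snd L (down q π)) (downProj q π) (downProj q π) := by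
  have w : (downAction q a).act ≫ downProj q π = snd L (down q π) ≫ downProj q π := by
    apply Over.OverMorphism.ext
    show (downAct q a).left ≫ π = (snd L (down q π)).left ≫ π
    rw [downAct, Over.comp_left]
    show (𝟙 _ ≫ _) ≫ π = _
    rw [Category.id_comp]
    exact Over.w (lift (toBc q (prodUp q L π) ((prodIso q L π).inv ≫ fst L (down q π)))
      (Over.homMk (snd L (down q π)).left rfl : prodUp q L π ⟶ Over.mk π) ≫ a.act)
  have key : ∀ {T : Over S} (x y : T ⟶ down q π), x ≫ downProj q π = y ≫ downProj q π →
      ∃! t : T ⟶ L, lift t y ≫ (downAction q a).act = x := by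
    intro T x y hxy
    obtain ⟨T', e, y', hy⟩ := exists_iso_map q y
    have hyl : (e.hom ≫ y).left = y'.left := congrArg (fun m => m.left) hy
    let x' : T' ⟶ Over.mk π := Over.homMk (e.hom ≫ x).left (by
      show (e.hom ≫ x).left ≫ π = _
      have := congrArg (fun m => m.left) (congrArg (e.hom ≫ ·) hxy)
      simp only [← Category.assoc] at this
      refine Eq.trans this ?_
      show (e.hom ≫ y).left ≫ π = _
      rw [hyl]; exact Over.w y')
    have hx : e.hom ≫ x = (Over.map q).map x' := Over.OverMorphism.ext rfl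
    haveI := htors
    let g := lift x' y' ≫ CategoryTheory.inv (lift a.act (snd (Red.bc q L) (Over.mk π)))
    have hg : g ≫ lift a.act (snd (Red.bc q L) (Over.mk π)) = lift x' y' := by
      show (_ ≫ _) ≫ _ = _
      rw [Category.assoc, IsIso.inv_hom_id, Category.comp_id]
    have hg1 : g ≫ a.act = x' := by simpa using congrArg (· ≫ fst _ _) hg
    have hg2 : g ≫ snd (Red.bc q L) (Over.mk π) = y' := by simpa using congrArg (· ≫ snd _ _) hg
    refine ⟨e.inv ≫ ((Over.mapPullbackAdj q).homEquiv T' L).symm (g ≫ fst _ _), ?_, fun t ht => ?_⟩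
    · show lift _ y ≫ downAct q a = x
      rw [← cancel_epi e.hom, comp_lift_assoc, Iso.hom_inv_id_assoc, hy, lift_downAct, hx]
      congr 1
      simp only [Equiv.apply_symm_apply]
      rw [← hg2, ← comp_lift, lift_fst_snd, Category.comp_id, hg1]
    · replace ht : lift t y ≫ downAct q a = x := ht
      rw [← cancel_epi e.hom, comp_lift_assoc, hy, lift_downAct, hx] at ht
      have ht' : lift (toBc q T' (e.hom ≫ t)) y' ≫ a.act = x' :=
        Over.OverMorphism.ext (congrArg (fun m => m.left) ht)
      have h1 : lift (toBc q T' (e.hom ≫ t)) y' = g := by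
        rw [← cancel_mono (lift a.act (snd (Red.bc q L) (Over.mk π))), hg, comp_lift, ht', lift_snd]
      rw [← h1, lift_fst, Equiv.symm_apply_apply, Iso.inv_hom_id_assoc]
  refine ⟨⟨w⟩, ⟨PullbackCone.IsLimit.mk w (fun s => lift (key s.fst s.snd s.condition).choose s.snd)
    (fun s => (key s.fst s.snd s.condition).choose_spec.1) (fun s => lift_snd _ _) fun s m h₁ h₂ => ?_⟩⟩
  apply CartesianMonoidalCategory.hom_ext
  · rw [lift_fst]
    refine (key s.fst s.snd s.condition).choose_spec.2 _ ?_
    show lift (m ≫ fst _ _) s.snd ≫ (downAction q a).act = _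
    rw [← h₂, ← comp_lift, lift_fst_snd, Category.comp_id, h₁]
  · rw [lift_snd, h₂]

theorem exists_open_section_of_torsor {k : Type u} [Field k] [IsAlgClosed k]
    (L : Over (Spec (CommRingCat.of k))) [GrpObj L] [IsCommMonObj L] [Smooth L.hom] [ConnectedSpace L.left]
    [IsAffine L.left] {X Y : Scheme.{u}} (qY : Y ⟶ Spec (CommRingCat.of k)) [Nonempty Y]
    (π : X ⟶ Y) [Flat π] [Surjective π] [QuasiCompact π] (a : AlgGrp.Action (Red.bc qY L) (Over.mk π))
    (htors : IsIso (lift a.act (snd (Red.bc qY L) (Over.mk π)))) :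
    ∃ U : Y.Opens, (U : Set ↥Y).Nonempty ∧ ∃ s : (↑U : Scheme.{u}) ⟶ X, s ≫ π = U.ι := by
  obtain ⟨y⟩ := ‹Nonempty Y›
  have hloc : NonAbH1.IsLocallyTrivialFor Scheme.fpqcPrecoverage (Over.mk (downProj qY π).left : Over Y) :=
    ⟨Presieve.singleton π, π.singleton_mem_fpqcPrecoverage, fun S' g hg => by
      cases hg; exact ⟨𝟙 _, Category.id_comp _⟩⟩
  have h := isSpecial_comm L _ _ (downAction qY a) (downProj qY π) (isPullback_downAction qY a htors) hloc
  obtain ⟨U, hy, s, hs⟩ := exists_open_of_zariski h y
  exact ⟨U, ⟨y, hy⟩, s, hs⟩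

end

end Groth.Agent.SpecialGL
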