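import Groth.Agent.MonoFibre.GLPoints
import Groth.Agent.HopfFF.Linear
import Groth.Agent.GrpSchLib.Cartier

/-!
# `GL_n` over a field, and embeddings of affine groups into it
-/

set_option autoImplicit false
set_option maxHeartbeats 2000000
set_option synthInstance.maxHeartbeats 400000
set_option linter.style.haveILetI false
set_option backward.isDefEq.respectTransparency false
set_option backward.isDefEq.respectTransparency.types false
universe u

open CategoryTheory CategoryTheory.Limits MonoidalCategory CartesianMonoidalCategory MonObj AlgebraicGeometry TensorProduct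

namespace Groth.Agent.SpecialGL

noncomputable section

attribute [local instance 50] MagnetHom.algZ
attribute [local instance 10000] Algebra.toModule

attribute [-instance] CategoryTheory.Hom.commGroup

open MonoFibre.GLPoints (Z)

variable {k : Type u} [Field k]

theorem isScalarTower_Z {L : Type u} [CommRing L] [Algebra k L] : IsScalarTower Z.{u} k L :=
  IsScalarTower.of_algebraMap_eq fun r =>
    RingHom.congr_fun (MonoFibre.GLPoints.ringHom_ext (algebraMap Z.{u} L) ((algebraMap k L).comp (algebraMap Z.{u} k))) r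

/-- The coordinate ring of `GL_n` over a field is a localisation of a polynomial ring. -/
theorem exists_algEquiv_localization (n : ℕ) :
    Nonempty ((k ⊗[Z.{u}] CoordGrp.GLn n Z.{u}) ≃ₐ[k]
      Localization.Away (Matrix.det (fun a b => MvPolynomial.X (a, b) : Matrix (Fin n) (Fin n) (MvPolynomial (Fin n × Fin n) k)))) := by
  let P := MvPolynomial (Fin n × Fin n) k
  let M : Matrix (Fin n) (Fin n) P := fun a b => MvPolynomial.X (a, b)
  let L := Localization.Away M.det
  let R := k ⊗[Z.{u}] CoordGrp.GLn n Z.{u}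
  haveI : IsScalarTower Z.{u} k L := isScalarTower_Z
  let ι₀ : P →ₐ[k] L := IsScalarTower.toAlgHom k P L
  have hinv : (ι₀.mapMatrix M).det * IsLocalization.Away.invSelf (S := L) M.det = 1 := by
    rw [← AlgHom.map_det]
    exact IsLocalization.Away.mul_invSelf M.det
  let f : R →ₐ[k] L := Algebra.TensorProduct.lift (Algebra.ofId k L)
    (CoordGrp.GLn.pt n Z.{u} (ι₀.mapMatrix M) _ hinv) fun _ _ => Commute.all _ _
  let ir : CoordGrp.GLn n Z.{u} →ₐ[Z.{u}] R := Algebra.TensorProduct.includeRight
  let p : P →ₐ[k] R := MvPolynomial.aeval fun q => ir (CoordGrp.GLn.X q.1 q.2)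
  have hp : p M.det = ir CoordGrp.GLn.det := by
    rw [AlgHom.map_det, CoordGrp.GLn.det_eq, AlgHom.map_det]
    congr 1
    ext a b
    exact MvPolynomial.aeval_X _ _
  have hu : IsUnit (p M.det) := by
    rw [hp]; exact (IsUnit.of_mul_eq_one _ CoordGrp.GLn.det_mul_Dinv).map ir
  let g : L →ₐ[k] R := IsLocalization.liftAlgHom (M := Submonoid.powers M.det) (f := p) fun y => by
    obtain ⟨m, hm⟩ := y.2
    rw [← hm, map_pow]; exact hu.pow m
  have hg : ∀ q, g (ι₀ q) = p q := fun q => IsLocalization.lift_eq _ q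
  have hf : ∀ x, f (ir x) = CoordGrp.GLn.pt n Z.{u} (ι₀.mapMatrix M) _ hinv x := fun x => by
    show f ((1 : k) ⊗ₜ x) = _
    refine (Algebra.TensorProduct.lift_tmul _ _ _ _ _).trans ?_
    rw [map_one, _root_.one_mul]
  have h2 : f.comp g = AlgHom.id k _ := by
    refine IsLocalization.algHom_ext (Submonoid.powers M.det) (MvPolynomial.algHom_ext fun q => ?_)
    show f (g (ι₀ (MvPolynomial.X q))) = ι₀ (MvPolynomial.X q)
    rw [hg, show p (MvPolynomial.X q) = ir (CoordGrp.GLn.X q.1 q.2) from MvPolynomial.aeval_X _ _, hf]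
    exact CoordGrp.GLn.pt_X _ _ _ q.1 q.2
  have h1 : g.comp f = AlgHom.id k _ := by
    refine Algebra.TensorProduct.ext_ring ?_
    refine CoordGrp.GLn.algHom_ext (fun a b => ?_) ?_
    · show g (f (ir _)) = ir _
      rw [hf, CoordGrp.GLn.pt_X]
      exact (hg _).trans (MvPolynomial.aeval_X _ _)
    · show g (f (ir _)) = ir _
      rw [hf, CoordGrp.GLn.pt_Dinv]
      have e1 : g (ι₀ M.det) * g (IsLocalization.Away.invSelf (S := L) M.det) = 1 := by
        rw [← map_mul, show ι₀ M.det * IsLocalization.Away.invSelf (S := L) M.det = 1 from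
          IsLocalization.Away.mul_invSelf M.det, map_one]
      rw [hg, hp] at e1
      refine (left_inv_eq_right_inv ?_ e1).symm
      rw [← map_mul, CoordGrp.GLn.Dinv_mul_det, map_one]
  exact ⟨AlgEquiv.ofAlgHom f g h2 h1⟩

/-- `GL_n` over a field is smooth and connected. -/
theorem smooth_and_connected_GLn (n : ℕ) :
    Smooth (FrB.GLn n (Spec (CommRingCat.of k))).hom ∧ ConnectedSpace (FrB.GLn n (Spec (CommRingCat.of k))).left := by
  let M : Matrix (Fin n) (Fin n) (MvPolynomial (Fin n × Fin n) k) := fun a b => MvPolynomial.X (a, b)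
  obtain ⟨e⟩ := exists_algEquiv_localization (k := k) n
  have hne : M.det ≠ 0 := Matrix.det_mvPolynomialX_ne_zero (Fin n) k
  haveI : IsDomain (Localization.Away M.det) := IsLocalization.isDomain_of_le_nonZeroDivisors _
    (powers_le_nonZeroDivisors_of_noZeroDivisors hne)
  haveI : IsDomain (k ⊗[Z.{u}] CoordGrp.GLn n Z.{u}) := e.toMulEquiv.isDomain _
  haveI : Algebra.FormallySmooth k (MvPolynomial (Fin n × Fin n) k) := Algebra.instFormallySmoothMvPolynomial _
  haveI : Algebra.Smooth k (MvPolynomial (Fin n × Fin n) k) := ⟨inferInstance, inferInstance⟩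
  haveI : Algebra.Smooth (MvPolynomial (Fin n × Fin n) k) (Localization.Away M.det) := Algebra.Smooth.of_isLocalization_Away M.det
  haveI : Algebra.Smooth k (Localization.Away M.det) := Algebra.Smooth.comp k (MvPolynomial (Fin n × Fin n) k) _
  haveI : Algebra.Smooth k (k ⊗[Z.{u}] CoordGrp.GLn n Z.{u}) := Algebra.Smooth.of_equiv e.symm
  let a : Spec (CommRingCat.of k) ⟶ Spec (CommRingCat.of Z.{u}) := Spec.map (CommRingCat.ofHom (algebraMap Z.{u} k))
  let b : (FrB.GLZ.{u} n).left ⟶ Spec (CommRingCat.of Z.{u}) := (FrB.GLZ.{u} n).hom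
  have ha : IsTerminal.from specULiftZIsTerminal (Spec (CommRingCat.of k)) = a := specULiftZIsTerminal.hom_ext _ _
  let E : (FrB.GLn n (Spec (CommRingCat.of k))).left ≅ Spec (CommRingCat.of (k ⊗[Z.{u}] CoordGrp.GLn n Z.{u})) :=
    pullbackSymmetry _ _ ≪≫ pullback.congrHom ha rfl ≪≫ pullbackSpecIso Z.{u} k (CoordGrp.GLn n Z.{u})
  have hE : (FrB.GLn n (Spec (CommRingCat.of k))).hom =
      E.hom ≫ Spec.map (CommRingCat.ofHom (algebraMap k (k ⊗[Z.{u}] CoordGrp.GLn n Z.{u}))) := by
    rw [← Iso.inv_comp_eq]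
    simp [E]
    exact pullbackSpecIso_inv_fst _ _ _
  refine ⟨?_, ?_⟩
  · rw [hE]
    haveI : Smooth (Spec.map (CommRingCat.ofHom (algebraMap k (k ⊗[Z.{u}] CoordGrp.GLn n Z.{u})))) := by
      rw [HasRingHomProperty.Spec_iff (P := @Smooth)]
      exact RingHom.smooth_algebraMap.mpr inferInstance
    infer_instance
  · haveI : IrreducibleSpace ↥(Spec (CommRingCat.of (k ⊗[Z.{u}] CoordGrp.GLn n Z.{u}))) :=
      inferInstanceAs (IrreducibleSpace (PrimeSpectrum _))
    exact (Scheme.homeoOfIso E).symm.surjective.connectedSpace (Scheme.homeoOfIso E).symm.continuous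

/-- An affine algebraic group embeds into some `GL_n`. -/
theorem exists_closedImmersion_GLn (G : Over (Spec (CommRingCat.of k))) [GrpObj G] [IsAffine G.left]
    [LocallyOfFiniteType G.hom] :
    ∃ (n : ℕ) (j : G ⟶ FrB.GLn n (Spec (CommRingCat.of k))), IsMonHom j ∧ IsClosedImmersion j.left := by
  obtain ⟨A, ⟨eA⟩⟩ := essImage_hopfSpec.mpr (show IsAffine (Grp.mk G).X.left by exact ‹IsAffine G.left›)
  let X : Over (Spec (CommRingCat.of k)) := (Spec (CommRingCat.of A.unop)).asOver (Spec (CommRingCat.of k))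
  let e : X ⟶ G := eA.hom.hom.hom
  let e' : G ⟶ X := eA.inv.hom.hom
  haveI : IsMonHom e' := inferInstanceAs (IsMonHom eA.inv.hom.hom)
  haveI : IsIso e.left := ((Over.forget _).mapIso ((Grp.forget _).mapIso eA)).isIso_hom
  haveI : IsIso e'.left := ((Over.forget _).mapIso ((Grp.forget _).mapIso eA)).isIso_inv
  haveI : LocallyOfFiniteType (Spec.map (CommRingCat.ofHom (algebraMap k A.unop))) := by
    show LocallyOfFiniteType X.hom
    rw [← Over.w e]
    infer_instance
  haveI : Algebra.FiniteType k A.unop :=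
    RingHom.finiteType_algebraMap.mp ((HasRingHomProperty.Spec_iff (P := @LocallyOfFiniteType)).mp ‹_›)
  obtain ⟨s, hs⟩ := (inferInstance : Algebra.FiniteType k A.unop).out
  obtain ⟨n, M, d, hd, h0, -, hmem⟩ := HopfFF.exists_coord_matrix (k := k) s
  let m := MonoFibre.GLPoints.matHom (k := k) M d hd
  haveI : IsMonHom m := MonoFibre.GLPoints.isMonHom_matHom M d hd h0
  refine ⟨n, e' ≫ m, inferInstance, ?_⟩
  haveI : IsScalarTower Z.{u} k A.unop := isScalarTower_Z
  let ψ : k ⊗[Z.{u}] CoordGrp.GLn n Z.{u} →ₐ[k] A.unop :=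
    Algebra.TensorProduct.lift (Algebra.ofId k A.unop) (CoordGrp.GLn.pt n Z.{u} M d hd) fun _ _ => Commute.all _ _
  have hψ : Function.Surjective ψ := by
    have key : Algebra.adjoin k (s : Set A.unop) ≤ ψ.range := by
      refine Algebra.adjoin_le fun b hb => ?_
      have h : Submodule.span k (Set.range fun p : Fin n × Fin n => M p.1 p.2) ≤
          Subalgebra.toSubmodule ψ.range := by
        refine Submodule.span_le.mpr ?_
        rintro _ ⟨p, rfl⟩
        exact ⟨1 ⊗ₜ CoordGrp.GLn.X p.1 p.2, by simp [ψ]⟩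
      exact h (hmem b hb)
    rw [hs] at key
    exact fun x => key (Algebra.mem_top (x := x))
  haveI : IsClosedImmersion (Spec.map (CommRingCat.ofHom ψ.toRingHom)) := IsClosedImmersion.spec_of_surjective _ hψ
  have ha : IsTerminal.from specULiftZIsTerminal (Spec (CommRingCat.of k)) =
      Spec.map (CommRingCat.ofHom (algebraMap Z.{u} k)) := specULiftZIsTerminal.hom_ext _ _
  let E : (FrB.GLn n (Spec (CommRingCat.of k))).left ≅ Spec (CommRingCat.of (k ⊗[Z.{u}] CoordGrp.GLn n Z.{u})) :=
    pullbackSymmetry _ _ ≪≫ pullback.congrHom ha rfl ≪≫ pullbackSpecIso Z.{u} k (CoordGrp.GLn n Z.{u})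
  have hm : m.left = Spec.map (CommRingCat.ofHom ψ.toRingHom) ≫ E.inv := by
    apply pullback.hom_ext
    · have hfst : E.inv ≫ pullback.fst (FrB.GLZ.{u} n).hom (IsTerminal.from specULiftZIsTerminal (Spec (CommRingCat.of k))) =
          Spec.map (CommRingCat.ofHom (Algebra.TensorProduct.includeRight : CoordGrp.GLn n Z.{u} →ₐ[Z.{u}] k ⊗[Z.{u}] CoordGrp.GLn n Z.{u}).toRingHom) := by
        simp [E]
        exact pullbackSpecIso_inv_snd _ _ _
      rw [Category.assoc, hfst, ← Spec.map_comp, ← CommRingCat.ofHom_comp]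
      refine (MonoFibre.GLPoints.glPt_left_fst A.unop _ _).trans ?_
      congr 2
      exact congrArg AlgHom.toRingHom (Algebra.TensorProduct.lift_comp_includeRight (Algebra.ofId k A.unop)
        (CoordGrp.GLn.pt n Z.{u} M d hd) fun _ _ => Commute.all _ _).symm
    · have hsnd : E.inv ≫ pullback.snd (FrB.GLZ.{u} n).hom (IsTerminal.from specULiftZIsTerminal (Spec (CommRingCat.of k))) =
          Spec.map (CommRingCat.ofHom (algebraMap k (k ⊗[Z.{u}] CoordGrp.GLn n Z.{u}))) := by
        simp [E]
        exact pullbackSpecIso_inv_fst _ _ _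
      rw [Category.assoc, hsnd, ← Spec.map_comp, ← CommRingCat.ofHom_comp, AlgHom.toRingHom_eq_coe,
        AlgHom.comp_algebraMap]
      exact Over.w m
  rw [Over.comp_left, hm]
  infer_instance

end

end Groth.Agent.SpecialGL
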