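import Groth.Agent.SpecialGLLib.AssocLocal
import Groth.Agent.SpecialGLLib.Field

/-!
# Local isotriviality of torsors under affine smooth groups
-/

set_option autoImplicit false
set_option maxHeartbeats 1000000
set_option synthInstance.maxHeartbeats 400000
set_option linter.style.haveILetI false
set_option backward.isDefEq.respectTransparency false
set_option backward.isDefEq.respectTransparency.types false
universe u

open CategoryTheory CategoryTheory.Limits MonoidalCategory CartesianMonoidalCategory MonObj AlgebraicGeometry TensorProduct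

namespace Groth.Agent.SpecialGL

noncomputable section

attribute [-instance] CategoryTheory.Hom.commGroup

/-- A torsor under an affine smooth group over an algebraically closed field is locally isotrivial. -/
theorem exists_finiteEtale_section {k : Type u} [Field k] [IsAlgClosed k]
    {G X Y : Over (Spec (CommRingCat.of k))} [GrpObj G] [IsAffine G.left] [Smooth G.hom]
    (a : AlgGrp.Action G X) (φ : X ⟶ Y) (hcart : IsPullback a.act (snd G X) φ φ)
    (hloc : NonAbH1.IsLocallyTrivialFor Scheme.fpqcPrecoverage (Over.mk φ.left : Over Y.left)) (y : Y.left) :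
    ∃ (U : Y.left.Opens) (_ : y ∈ U) (U' : Scheme.{u}) (f : U' ⟶ ↑U)
      (_ : IsFinite f) (_ : Etale f) (_ : Surjective f),
      NonAbH1.HasSectionOver (Over.mk φ.left : Over Y.left) (f ≫ U.ι) := by
  haveI : LocallyOfFiniteType G.hom := inferInstance
  obtain ⟨n, j, hj, hjc⟩ := exists_closedImmersion_GLn G
  haveI := hj; haveI := hjc
  haveI hpre : IsPreimmersion j.left := inferInstance
  haveI : Mono j := (Over.forget _).mono_of_mono_map (f := j) (show Mono j.left from SurjectiveOnStalks.mono_of_injective j.left.isEmbedding.injective)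
  obtain ⟨hsm, hconn⟩ := smooth_and_connected_GLn (k := k) n
  haveI := hsm; haveI := hconn
  haveI : IsAffineHom (FrB.GLn n (Spec (CommRingCat.of k))).hom := isAffineHom_GLn n _
  haveI : QuasiCompact (FrB.GLn n (Spec (CommRingCat.of k))).hom := inferInstance
  haveI := locallyOfFinitePresentation_GLn n (Spec (CommRingCat.of k))
  haveI : Surjective (FrB.GLn n (Spec (CommRingCat.of k))).hom := by
    refine ⟨fun z => ⟨(matPt (n := n) (𝟙 (Spec (CommRingCat.of k))) 1).left z, ?_⟩⟩
    exact Subsingleton.elim (α := PrimeSpectrum k) _ _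
  obtain ⟨B, π, hsep, hlft, hqc, hfp, -, hπ⟩ := AssocBundle.exists_coset_quotient (G := FrB.GLn n (Spec (CommRingCat.of k))) j
  haveI := hsep; haveI := hlft; haveI := hqc; haveI := hfp
  obtain ⟨U, hy, u, hu⟩ := exists_classifying j hπ a φ hcart hloc y
  obtain ⟨V, hbV, -, hms⟩ := AssocBundle.exists_multisection j hπ (u.left ⟨y, hy⟩)
  obtain ⟨V', ψ, s, hψf, hψe, hψs, hs⟩ := hms
  haveI := hψf; haveI := hψe; haveI := hψs
  let W₀ : U.toScheme.Opens := u.left ⁻¹ᵁ V
  let W : Y.left.Opens := U.ι ''ᵁ W₀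
  let i : W.toScheme ⟶ W₀.toScheme := (U.ι.isoImage W₀).inv
  let p := pullback.fst (i ≫ u.left ∣_ V) ψ
  refine ⟨W, ⟨⟨y, hy⟩, hbV, rfl⟩, pullback (i ≫ u.left ∣_ V) ψ, p, inferInstance, inferInstance, inferInstance, ?_⟩
  let T : Over (Spec (CommRingCat.of k)) := Over.mk (((p ≫ i ≫ W₀.ι) ≫ U.ι) ≫ Y.hom)
  let κ : T ⟶ Over.mk (U.ι ≫ Y.hom) := Over.homMk (p ≫ i ≫ W₀.ι) (Category.assoc _ _ _).symm
  let g₀ := pullback.snd (i ≫ u.left ∣_ V) ψ ≫ s
  have hg₀ : g₀ ≫ π.left = (p ≫ i ≫ W₀.ι) ≫ u.left := by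
    simp only [g₀, Category.assoc, hs, W₀, ← morphismRestrict_ι]
    rw [← reassoc_of% (pullback.condition (f := i ≫ u.left ∣_ V) (g := ψ))]
  have hg₁ : g₀ ≫ (FrB.GLn n (Spec (CommRingCat.of k))).hom = T.hom := by
    rw [← Over.w π, ← Category.assoc, hg₀, Category.assoc, Over.w u]
    exact (Category.assoc _ _ _).symm
  obtain ⟨x, hx⟩ := hu κ (Over.homMk g₀ hg₁) (Over.OverMorphism.ext hg₀)
  refine ⟨x.left, hx.trans ?_⟩
  show (p ≫ i ≫ W₀.ι) ≫ U.ι = p ≫ W.ι
  simp only [i, Category.assoc]
  rw [Scheme.Hom.isoImage_inv_ι]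

end

end Groth.Agent.SpecialGL
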