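import Groth.Agent.SpecialGLLib.LocalSection
import Groth.Agent.SpreadLib.Basic
import Groth.Agent.GitQuot.Torsor
import Groth.Agent.AssocBundleLib.Torsor

/-!
# Torsors under `GL_n` are Zariski locally trivial
-/

set_option autoImplicit false
set_option maxHeartbeats 1000000
set_option linter.style.haveILetI false
set_option backward.isDefEq.respectTransparency false
set_option backward.isDefEq.respectTransparency.types false
universe u

open CategoryTheory CategoryTheory.Limits MonoidalCategory CartesianMonoidalCategory MonObj AlgebraicGeometry TensorProduct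

namespace Groth.Agent.SpecialGL

noncomputable section

/-- A property of the group which descends along fpqc morphisms holds for a torsor. -/
theorem prop_of_torsor {S : Scheme.{u}} {G X Y : Over S} [GrpObj G] (a : AlgGrp.Action G X) (φ : X ⟶ Y)
    [SchDesc.IsFpqc φ.left] (hcart : IsPullback a.act (snd G X) φ φ)
    (P : MorphismProperty Scheme.{u}) [P.IsStableUnderBaseChange] [IsZariskiLocalAtTarget P]
    (hd : P.DescendsAlong (@Surjective ⊓ @Flat ⊓ @QuasiCompact)) (hG : P G.hom) : P φ.left := by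
  have hl : IsPullback a.act.left (snd G X).left φ.left φ.left := hcart.map (Over.forget S)
  refine TorsorDesc.prop_of_isFpqc P hd φ.left φ.left ?_
  have h1 : P (snd G X).left := MorphismProperty.pullback_snd G.hom X.hom hG
  rw [← hl.isoPullback_inv_snd]
  exact MorphismProperty.RespectsIso.precomp P _ _ h1

/-- An fpqc torsor under `GL_n` has sections locally for the Zariski topology. -/
theorem exists_open_section {n : ℕ} {S : Scheme.{u}} [IsAffineHom (FrB.GLn n S).hom] [Flat (FrB.GLn n S).hom]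
    [LocallyOfFinitePresentation (FrB.GLn n S).hom] {X Y : Over S} (a : AlgGrp.Action (FrB.GLn n S) X)
    (φ : X ⟶ Y) (hcart : IsPullback a.act (snd (FrB.GLn n S) X) φ φ)
    (hloc : NonAbH1.IsLocallyTrivialFor Scheme.fpqcPrecoverage (Over.mk φ.left : Over Y.left)) (y : Y.left) :
    ∃ U : Y.left.Opens, y ∈ U ∧ NonAbH1.HasSectionOver (Over.mk φ.left : Over Y.left) U.ι := by
  haveI := AssocBundle.isFpqc_of_torsor a φ hcart hloc
  obtain ⟨haff, hq⟩ := GitTorsor.isAffineHom_and_isGeomQuot a φ hcart hloc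
  haveI := haff
  haveI : Surjective φ.left := ⟨hq.surj⟩
  haveI : Flat φ.left := prop_of_torsor a φ hcart @Flat inferInstance inferInstance
  haveI : LocallyOfFinitePresentation φ.left :=
    prop_of_torsor a φ hcart @LocallyOfFinitePresentation inferInstance inferInstance
  obtain ⟨V, hV, hyV, -⟩ := exists_isAffineOpen_mem_and_subset (U := ⊤) (show y ∈ (⊤ : Y.left.Opens) from trivial)
  let W : X.left.Opens := φ.left ⁻¹ᵁ V
  have hW : IsAffineOpen W := hV.preimage φ.left
  let A' : Type u := Γ(Y.left, V)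
  let B' : Type u := Γ(X.left, W)
  let f := φ.left.appLE V W le_rfl
  algebraize [f.hom]
  haveI : Algebra.FinitePresentation A' B' := φ.left.finitePresentation_appLE hV hW le_rfl
  haveI : Module.Flat A' B' := φ.left.flat_appLE hV hW le_rfl
  haveI : Module.FaithfullyFlat A' B' := by
    apply Module.FaithfullyFlat.of_comap_surjective
    intro P
    obtain ⟨x, hx⟩ := φ.left.surjective (hV.fromSpec P)
    have hmem : hV.fromSpec P ∈ V := by
      rw [← SetLike.mem_coe, ← hV.range_fromSpec]; exact ⟨P, rfl⟩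
    have hxW : x ∈ Set.range hW.fromSpec := by
      rw [hW.range_fromSpec]; show φ.left x ∈ V; rwa [hx]
    obtain ⟨Q, rfl⟩ := hxW
    refine ⟨Q, hV.fromSpec.isOpenEmbedding.injective ?_⟩
    refine Eq.trans ?_ hx
    exact congrArg (fun m => m Q) (IsAffineOpen.SpecMap_appLE_fromSpec φ.left hV hW le_rfl)
  let p := hV.primeIdealOf ⟨y, hyV⟩
  let A : Type u := Localization.AtPrime p.asIdeal
  let B : Type u := A ⊗[A'] B'
  let yA : Spec (CommRingCat.of A) ⟶ Y.left := Spec.map (CommRingCat.ofHom (algebraMap A' A)) ≫ hV.fromSpec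
  let xB : Spec (CommRingCat.of B) ⟶ X.left :=
    Spec.map (CommRingCat.ofHom (Algebra.TensorProduct.includeRight : B' →ₐ[A'] B).toRingHom) ≫ hW.fromSpec
  have hf : CommRingCat.ofHom (algebraMap A' B') = f := rfl
  have h : xB ≫ φ.left = Spec.map (CommRingCat.ofHom (algebraMap A B)) ≫ yA := by
    simp only [xB, yA, Category.assoc]
    rw [← IsAffineOpen.SpecMap_appLE_fromSpec φ.left hV hW le_rfl, ← Category.assoc, ← Category.assoc,
      ← Spec.map_comp, ← Spec.map_comp]
    congr 2
    show f ≫ CommRingCat.ofHom _ = CommRingCat.ofHom (algebraMap A' A) ≫ CommRingCat.ofHom (algebraMap A B)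
    rw [← hf, ← CommRingCat.ofHom_comp, ← CommRingCat.ofHom_comp]
    congr 1
    ext r
    exact (Algebra.TensorProduct.includeRight.commutes r).trans (IsScalarTower.algebraMap_apply A' A B r)
  obtain ⟨s, hs⟩ := exists_section_of_local hcart yA xB h
  have hsW : Set.range s ⊆ Set.range hW.fromSpec := by
    rintro _ ⟨z, rfl⟩
    rw [hW.range_fromSpec]
    show φ.left (s z) ∈ V
    rw [← Scheme.Hom.comp_apply, hs, ← SetLike.mem_coe, ← hV.range_fromSpec]
    exact ⟨_, (Scheme.Hom.comp_apply _ _ z).symm⟩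
  let σ₀ := IsOpenImmersion.lift hW.fromSpec s hsW
  obtain ⟨σ, hσ⟩ : ∃ σ, Spec.map σ = σ₀ := ⟨_, Spec.map_preimage _⟩
  have hσ' : f ≫ σ = CommRingCat.ofHom (algebraMap A' A) := by
    apply Spec.map_injective
    rw [← cancel_mono hV.fromSpec, Spec.map_comp, Category.assoc,
      IsAffineOpen.SpecMap_appLE_fromSpec φ.left hV hW le_rfl, ← Category.assoc, hσ,
      IsOpenImmersion.lift_fac, hs]
  obtain ⟨g, hg, τ, -⟩ := SpreadLib.exists_lift_away (R := A') (S := B') (T := A') p.asIdeal
    ({ σ.hom with commutes' := fun r => congrArg (fun m => (CommRingCat.Hom.hom m) r) hσ' } : B' →ₐ[A'] A)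
  let j : Spec (CommRingCat.of (Localization.Away g)) ⟶ Y.left :=
    Spec.map (CommRingCat.ofHom (algebraMap A' (Localization.Away g))) ≫ hV.fromSpec
  haveI : IsOpenImmersion (Spec.map (CommRingCat.ofHom (algebraMap A' (Localization.Away g)))) :=
    IsOpenImmersion.of_isLocalization g
  haveI : IsOpenImmersion j := inferInstanceAs (IsOpenImmersion (_ ≫ hV.fromSpec))
  refine ⟨j.opensRange, ?_, ?_⟩
  · have hpg : p ∈ Set.range (PrimeSpectrum.comap (algebraMap A' (Localization.Away g))) := by
      rw [PrimeSpectrum.localization_away_comap_range _ g]; exact hg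
    obtain ⟨q, hq'⟩ := hpg
    refine ⟨q, ?_⟩
    exact (congrArg (fun t => hV.fromSpec t) hq').trans (hV.fromSpec_primeIdealOf ⟨y, hyV⟩)
  · refine ⟨j.isoOpensRange.inv ≫ Spec.map (CommRingCat.ofHom τ.toRingHom) ≫ hW.fromSpec, ?_⟩
    show (_ ≫ _ ≫ _) ≫ φ.left = _
    rw [Category.assoc, Category.assoc, ← IsAffineOpen.SpecMap_appLE_fromSpec φ.left hV hW le_rfl,
      ← Category.assoc (Spec.map _), ← Spec.map_comp]
    have e : f ≫ CommRingCat.ofHom τ.toRingHom = CommRingCat.ofHom (algebraMap A' (Localization.Away g)) :=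
      CommRingCat.hom_ext (RingHom.ext τ.commutes)
    show j.isoOpensRange.inv ≫ Spec.map (f ≫ _) ≫ hV.fromSpec = _
    rw [e]
    show j.isoOpensRange.inv ≫ j = _
    exact j.isoOpensRange_inv_comp

/-- An fpqc torsor under `GL_n` is Zariski locally trivial. -/
theorem isLocallyTrivialFor_zariski {n : ℕ} {S : Scheme.{u}} [IsAffineHom (FrB.GLn n S).hom]
    [Flat (FrB.GLn n S).hom] [LocallyOfFinitePresentation (FrB.GLn n S).hom] {X Y : Over S}
    (a : AlgGrp.Action (FrB.GLn n S) X) (φ : X ⟶ Y) (hcart : IsPullback a.act (snd (FrB.GLn n S) X) φ φ)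
    (hloc : NonAbH1.IsLocallyTrivialFor Scheme.fpqcPrecoverage (Over.mk φ.left : Over Y.left)) :
    NonAbH1.IsLocallyTrivialFor Scheme.zariskiPrecoverage (Over.mk φ.left : Over Y.left) := by
  choose U hU hsec using exists_open_section a φ hcart hloc
  let 𝒰 := Y.left.openCoverOfIsOpenCover U (TopologicalSpace.IsOpenCover.mk
    (top_le_iff.mp fun y _ => TopologicalSpace.Opens.mem_iSup.mpr ⟨y, hU y⟩))
  refine ⟨𝒰.presieve₀, 𝒰.mem₀, ?_⟩
  rintro S' f ⟨i⟩
  exact hsec i

instance isAffineHom_GLn (n : ℕ) (S : Scheme.{u}) : IsAffineHom (FrB.GLn n S).hom :=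
  MorphismProperty.pullback_snd (P := @IsAffineHom) _ _ (inferInstanceAs (IsAffineHom (Spec.map _)))

theorem locallyOfFinitePresentation_GLn (n : ℕ) (S : Scheme.{u}) :
    LocallyOfFinitePresentation (FrB.GLn n S).hom := by
  haveI : IsNoetherianRing (ULift.{u} ℤ) := isNoetherianRing_of_ringEquiv ℤ ULift.ringEquiv.symm
  haveI : Algebra.FiniteType (ULift.{u} ℤ) (CoordGrp.GLn n (ULift.{u} ℤ)) :=
    Algebra.FiniteType.of_surjective (show MvPolynomial (CoordGrp.GLPoly.Idx n) (ULift.{u} ℤ) →ₐ[ULift.{u} ℤ] CoordGrp.GLn n (ULift.{u} ℤ) from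
      CoordGrp.GLn.mk n (ULift.{u} ℤ)) Ideal.Quotient.mk_surjective
  haveI : Algebra.FinitePresentation (ULift.{u} ℤ) (CoordGrp.GLn n (ULift.{u} ℤ)) :=
    Algebra.FinitePresentation.of_finiteType.mp inferInstance
  refine MorphismProperty.pullback_snd (P := @LocallyOfFinitePresentation) _ _ ?_
  exact (HasRingHomProperty.Spec_iff (P := @LocallyOfFinitePresentation)).mpr
    (RingHom.finitePresentation_algebraMap.mpr inferInstance)

end

end Groth.Agent.SpecialGL
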