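import Groth.Agent.SpecialGLLib.AssocSection
import Groth.Agent.SpecialGLLib.Zariski
import Groth.Agent.AssocBundleLib.Square
import Groth.Agent.FpqcDesc.Basic

/-!
# A torsor is locally pulled back from `GL_n ⟶ GL_n / G`
-/

set_option autoImplicit false
set_option maxHeartbeats 1000000
set_option linter.style.haveILetI false
set_option backward.isDefEq.respectTransparency false
set_option backward.isDefEq.respectTransparency.types false
universe u

open CategoryTheory CategoryTheory.Limits MonoidalCategory CartesianMonoidalCategory MonObj AlgebraicGeometry TensorProduct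

namespace Groth.Agent.SpecialGL

noncomputable section

attribute [-instance] CategoryTheory.Hom.commGroup

/-- A point of the base lifts to a faithfully flat affine algebra. -/
theorem exists_lift_affine {X Y : Scheme.{u}} (f : X ⟶ Y) [IsAffineHom f] [Flat f] [Surjective f]
    {A : Type u} [CommRing A] (yA : Spec (CommRingCat.of A) ⟶ Y) :
    ∃ (B : Type u) (_ : CommRing B) (_ : Algebra A B), Module.FaithfullyFlat A B ∧
      ∃ xB : Spec (CommRingCat.of B) ⟶ X, xB ≫ f = Spec.map (CommRingCat.ofHom (algebraMap A B)) ≫ yA := by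
  haveI : IsAffine (pullback f yA) := isAffine_of_isAffineHom (pullback.snd f yA)
  let p : Spec Γ(pullback f yA, ⊤) ⟶ Spec (CommRingCat.of A) := (pullback f yA).isoSpec.inv ≫ pullback.snd f yA
  let ψ : CommRingCat.of A ⟶ Γ(pullback f yA, ⊤) := Spec.preimage p
  letI : Algebra A Γ(pullback f yA, ⊤) := ψ.hom.toAlgebra
  have hp : Spec.map (CommRingCat.ofHom (algebraMap A Γ(pullback f yA, ⊤))) = p := Spec.map_preimage p
  haveI : Flat p := inferInstance
  haveI : Surjective p := inferInstance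
  haveI : Module.Flat A Γ(pullback f yA, ⊤) := by
    rw [← RingHom.flat_algebraMap_iff]
    exact Flat.SpecMap_iff.mp (hp.symm ▸ ‹Flat p› :
      Flat (Spec.map (CommRingCat.ofHom (algebraMap A Γ(pullback f yA, ⊤)))))
  refine ⟨Γ(pullback f yA, ⊤), inferInstance, inferInstance, Module.FaithfullyFlat.of_comap_surjective ?_,
    (pullback f yA).isoSpec.inv ≫ pullback.fst f yA, ?_⟩
  · exact (hp.symm ▸ ‹Surjective p› :
      Surjective (Spec.map (CommRingCat.ofHom (algebraMap A Γ(pullback f yA, ⊤))))).surj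
  · rw [hp]
    simp only [p, Category.assoc, pullback.condition]

/-- Sections over local rings spread out. -/
theorem exists_open_section_of_local {Q Y : Scheme.{u}} (r : Q ⟶ Y) [IsAffineHom r]
    [LocallyOfFinitePresentation r]
    (hl : ∀ (A : Type u) [CommRing A] [IsLocalRing A] (yA : Spec (CommRingCat.of A) ⟶ Y),
      ∃ s : Spec (CommRingCat.of A) ⟶ Q, s ≫ r = yA) (y : Y) :
    ∃ (U : Y.Opens) (_ : y ∈ U) (σ : U.toScheme ⟶ Q), σ ≫ r = U.ι := by
  obtain ⟨V, hV, hyV, -⟩ := exists_isAffineOpen_mem_and_subset (U := ⊤) (show y ∈ (⊤ : Y.Opens) from trivial)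
  let W : Q.Opens := r ⁻¹ᵁ V
  have hW : IsAffineOpen W := hV.preimage r
  let A' : Type u := Γ(Y, V)
  let B' : Type u := Γ(Q, W)
  let f := r.appLE V W le_rfl
  algebraize [f.hom]
  haveI : Algebra.FinitePresentation A' B' := r.finitePresentation_appLE hV hW le_rfl
  let p := hV.primeIdealOf ⟨y, hyV⟩
  let A : Type u := Localization.AtPrime p.asIdeal
  let yA : Spec (CommRingCat.of A) ⟶ Y := Spec.map (CommRingCat.ofHom (algebraMap A' A)) ≫ hV.fromSpec
  obtain ⟨s, hs⟩ := hl A yA
  have hsW : Set.range s ⊆ Set.range hW.fromSpec := by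
    rintro _ ⟨z, rfl⟩
    rw [hW.range_fromSpec]
    show r (s z) ∈ V
    rw [← Scheme.Hom.comp_apply, hs, ← SetLike.mem_coe, ← hV.range_fromSpec]
    exact ⟨_, (Scheme.Hom.comp_apply _ _ z).symm⟩
  obtain ⟨σ, hσ⟩ : ∃ σ, Spec.map σ = IsOpenImmersion.lift hW.fromSpec s hsW := ⟨_, Spec.map_preimage _⟩
  have hσ' : f ≫ σ = CommRingCat.ofHom (algebraMap A' A) := by
    apply Spec.map_injective
    rw [← cancel_mono hV.fromSpec, Spec.map_comp, Category.assoc,
      IsAffineOpen.SpecMap_appLE_fromSpec r hV hW le_rfl, ← Category.assoc, hσ,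
      IsOpenImmersion.lift_fac, hs]
  obtain ⟨g, hg, τ, -⟩ := SpreadLib.exists_lift_away (R := A') (S := B') (T := A') p.asIdeal
    ({ σ.hom with commutes' := fun x => congrArg (fun m => (CommRingCat.Hom.hom m) x) hσ' } : B' →ₐ[A'] A)
  let j : Spec (CommRingCat.of (Localization.Away g)) ⟶ Y :=
    Spec.map (CommRingCat.ofHom (algebraMap A' (Localization.Away g))) ≫ hV.fromSpec
  haveI : IsOpenImmersion (Spec.map (CommRingCat.ofHom (algebraMap A' (Localization.Away g)))) :=
    IsOpenImmersion.of_isLocalization g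
  haveI : IsOpenImmersion j := inferInstanceAs (IsOpenImmersion (_ ≫ hV.fromSpec))
  refine ⟨j.opensRange, ?_, j.isoOpensRange.inv ≫ Spec.map (CommRingCat.ofHom τ.toRingHom) ≫ hW.fromSpec, ?_⟩
  · have hpg : p ∈ Set.range (PrimeSpectrum.comap (algebraMap A' (Localization.Away g))) := by
      rw [PrimeSpectrum.localization_away_comap_range _ g]; exact hg
    obtain ⟨q, hq'⟩ := hpg
    exact ⟨q, (congrArg (fun t => hV.fromSpec t) hq').trans (hV.fromSpec_primeIdealOf ⟨y, hyV⟩)⟩
  · rw [Category.assoc, Category.assoc, ← IsAffineOpen.SpecMap_appLE_fromSpec r hV hW le_rfl,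
      ← Category.assoc (Spec.map _), ← Spec.map_comp]
    have e : f ≫ CommRingCat.ofHom τ.toRingHom = CommRingCat.ofHom (algebraMap A' (Localization.Away g)) :=
      CommRingCat.hom_ext (RingHom.ext τ.commutes)
    show j.isoOpensRange.inv ≫ Spec.map (f ≫ _) ≫ hV.fromSpec = _
    rw [e]
    exact j.isoOpensRange_inv_comp

variable {n : ℕ} {S : Scheme.{u}} [IsAffineHom (FrB.GLn n S).hom] [Flat (FrB.GLn n S).hom]
  [LocallyOfFinitePresentation (FrB.GLn n S).hom] [Surjective (FrB.GLn n S).hom]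

/-- A torsor is, locally for the Zariski topology, the pull-back of `GL_n ⟶ GL_n / G`. -/
theorem exists_classifying {G X Y B : Over S} [GrpObj G] [IsAffineHom G.hom] [Flat G.hom]
    (j : G ⟶ FrB.GLn n S) [IsMonHom j] [Mono j] {π : FrB.GLn n S ⟶ B}
    (hπ : IsPullback (AssocBundle.cosetAction j).act (snd G (FrB.GLn n S)) π π)
    (a : AlgGrp.Action G X) (φ : X ⟶ Y) (hcart : IsPullback a.act (snd G X) φ φ)
    (hloc : NonAbH1.IsLocallyTrivialFor Scheme.fpqcPrecoverage (Over.mk φ.left : Over Y.left)) (y : Y.left) :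
    ∃ (U : Y.left.Opens) (_ : y ∈ U) (u : Over.mk (U.ι ≫ Y.hom) ⟶ B),
      ∀ {T : Over S} (k : T ⟶ Over.mk (U.ι ≫ Y.hom)) (g : T ⟶ FrB.GLn n S), g ≫ π = k ≫ u →
        ∃ x : T ⟶ X, x.left ≫ φ.left = k.left ≫ U.ι := by
  haveI := AssocBundle.isFpqc_of_torsor a φ hcart hloc
  obtain ⟨haff, hq⟩ := GitTorsor.isAffineHom_and_isGeomQuot a φ hcart hloc
  haveI := haff
  haveI : Surjective φ.left := ⟨hq.surj⟩
  haveI : Flat φ.left := prop_of_torsor a φ hcart @Flat inferInstance ‹Flat G.hom›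
  let c := a.prod (AssocBundle.cosetAction j)
  haveI : IsAffineHom (fst X (FrB.GLn n S)).left := AssocBundle.isAffineHom_fst X _
  obtain ⟨Q, q, r, hqr, hsq, hqfp, hqc⟩ :=
    AssocBundle.exists_quotient hcart (fst X (FrB.GLn n S)) c (AssocBundle.prod_act_fst a _)
  haveI := hqfp
  have hdescr : ∀ (P : MorphismProperty Scheme.{u}) [P.IsStableUnderBaseChange] [IsZariskiLocalAtTarget P],
      P.DescendsAlong (@Surjective ⊓ @Flat ⊓ @QuasiCompact) → P (fst X (FrB.GLn n S)).left → P r.left := by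
    intro P _ _ hd h1
    refine TorsorDesc.prop_of_isFpqc P hd r.left φ.left ?_
    rw [← hsq.flip.isoPullback_inv_snd]
    exact MorphismProperty.RespectsIso.precomp P _ _ h1
  haveI : IsAffineHom r.left := hdescr @IsAffineHom FpqcDesc.isAffineHom_descends inferInstance
  haveI : LocallyOfFinitePresentation r.left := hdescr @LocallyOfFinitePresentation inferInstance
    (MorphismProperty.pullback_fst (P := @LocallyOfFinitePresentation) X.hom (FrB.GLn n S).hom ‹_›)
  obtain ⟨U, hy, σ₀, hσ₀⟩ := exists_open_section_of_local r.left (fun A _ _ yA => by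
    obtain ⟨B', _, _, hff, xB, hxB⟩ := exists_lift_affine φ.left yA
    haveI := hff
    exact exists_assoc_section_of_local j hcart yA xB hxB q r hqr hqc.w) y
  let σ : Over.mk (U.ι ≫ Y.hom) ⟶ Q := Over.homMk σ₀ (by
    show σ₀ ≫ Q.hom = U.ι ≫ Y.hom
    rw [← Over.w r, ← Category.assoc, hσ₀])
  have hσ : σ.left ≫ r.left = U.ι := hσ₀
  obtain ⟨P, kP, wP, hkP, hwP⟩ := AssocBundle.exists_fpqc_lift q σ
  haveI := hkP
  have key : ∀ {T : Over S} (w w' : T ⟶ X ⊗ FrB.GLn n S), w ≫ q = w' ≫ q →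
      w ≫ snd _ _ ≫ π = w' ≫ snd _ _ ≫ π := by
    intro T w w' h
    have e := AssocBundle.div_act hqc w w' h
    have e' : c.act ≫ snd _ _ = (G ◁ snd X (FrB.GLn n S)) ≫ (AssocBundle.cosetAction j).act := by
      simp [c, AlgGrp.Action.prod]
    rw [← e, Category.assoc, ← Category.assoc c.act, e', Category.assoc, hπ.w, lift_whiskerLeft_assoc,
      lift_snd_assoc, Category.assoc]
  obtain ⟨u, hu⟩ := TorsorPush.exists_desc kP (wP ≫ snd _ _ ≫ π) fun Z a b hab => by
    have := key (a ≫ wP) (b ≫ wP) (by rw [Category.assoc, Category.assoc, hwP, ← Category.assoc, hab, Category.assoc])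
    simpa only [Category.assoc] using this
  refine ⟨U, hy, u, fun {T} k g hg => ?_⟩
  obtain ⟨T', t, w, ht, hw⟩ := AssocBundle.exists_fpqc_lift q (k ≫ σ)
  haveI := ht
  obtain ⟨T'', t', p, ht', hp⟩ := AssocBundle.exists_fpqc_lift kP (t ≫ k)
  haveI := ht'
  haveI := TorsorPush.epi_of_isFpqc t'
  have hu' : w ≫ snd _ _ ≫ π = t ≫ k ≫ u := by
    rw [← cancel_epi t', key (t' ≫ w) (p ≫ wP) ?_ |> fun e => (Category.assoc t' _ _).symm.trans e]
    · rw [Category.assoc, ← hu, ← Category.assoc, hp]; simp only [Category.assoc]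
    · rw [Category.assoc, hw, Category.assoc, hwP, reassoc_of% hp]
  have hgw : (t ≫ g) ≫ π = (w ≫ snd _ _) ≫ π := by rw [Category.assoc, Category.assoc, hu', hg]
  let hh := AssocBundle.div hπ (t ≫ g) (w ≫ snd _ _) hgw
  let w₁ : T' ⟶ X ⊗ FrB.GLn n S := lift hh w ≫ c.act
  have hw₁q : w₁ ≫ q = t ≫ k ≫ σ := by
    rw [Category.assoc, hqc.w, lift_snd_assoc, hw]
  have hw₁g : w₁ ≫ snd _ _ = t ≫ g := by
    rw [← AssocBundle.div_act hπ (t ≫ g) (w ≫ snd _ _) hgw]
    simp only [w₁, c, AlgGrp.Action.prod, Category.assoc, lift_snd, lift_whiskerLeft_assoc, hh]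
  clear_value w₁
  have huniq : ∀ {Z : Over S} (z z' : Z ⟶ X ⊗ FrB.GLn n S), z ≫ q = z' ≫ q →
      z ≫ snd _ _ = z' ≫ snd _ _ → z = z' := by
    intro Z z z' h1 h2
    have e := AssocBundle.div_act hqc z z' h1
    let d := AssocBundle.div hqc z z' h1
    have e2 : lift d (z' ≫ snd _ _) ≫ (AssocBundle.cosetAction j).act = z' ≫ snd _ _ := by
      conv_rhs => rw [← h2, ← e]
      simp only [c, AlgGrp.Action.prod, Category.assoc, lift_snd, lift_whiskerLeft_assoc, d]
    rw [AssocBundle.lift_cosetAction, mul_eq_left, inv_eq_one, ← MonObj.one_comp j, cancel_mono] at e2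
    rw [← e]
    show lift d z' ≫ c.act = z'
    rw [e2, AlgGrp.Action.lift_one_act]
  obtain ⟨w₀, hw₀⟩ := TorsorPush.exists_desc t w₁ fun Z a b hab => huniq _ _
    (by rw [Category.assoc, Category.assoc, hw₁q, ← Category.assoc, hab, Category.assoc])
    (by rw [Category.assoc, Category.assoc, hw₁g, ← Category.assoc, hab, Category.assoc])
  haveI := TorsorPush.epi_of_isFpqc t
  have hw₀q : w₀ ≫ q = k ≫ σ := by rw [← cancel_epi t, ← Category.assoc, hw₀, hw₁q]
  refine ⟨w₀ ≫ fst _ _, ?_⟩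
  have e : (w₀ ≫ fst _ _) ≫ φ = k ≫ σ ≫ r := by
    rw [Category.assoc, ← hqr, ← Category.assoc, hw₀q, Category.assoc]
  refine (congrArg (fun m => m.left) e).trans ?_
  show k.left ≫ σ.left ≫ r.left = _
  rw [hσ]

end

end Groth.Agent.SpecialGL
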