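import Groth.Agent.SpecialGLLib.LocalSection
import Groth.Agent.AssocBundleLib.Homog

/-!
# Sections over local rings of a bundle associated to a homomorphism into `GL_n`
-/

set_option autoImplicit false
set_option maxHeartbeats 1000000
set_option backward.isDefEq.respectTransparency false
set_option backward.isDefEq.respectTransparency.types false
universe u

open CategoryTheory CategoryTheory.Limits MonoidalCategory CartesianMonoidalCategory MonObj AlgebraicGeometry TensorProduct

namespace Groth.Agent.SpecialGL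

noncomputable section

attribute [-instance] CategoryTheory.Hom.commGroup

variable {n : ℕ} {S : Scheme.{u}} {G X Y : Over S} [GrpObj G] (j : G ⟶ FrB.GLn n S) [IsMonHom j]
  {a : AlgGrp.Action G X} {φ : X ⟶ Y} (hcart : IsPullback a.act (snd G X) φ φ)
  {A B : Type u} [CommRing A] [CommRing B] [Algebra A B]
  (yA : Spec (CommRingCat.of A) ⟶ Y.left) (xB : Spec (CommRingCat.of B) ⟶ X.left)
  (h : xB ≫ φ.left = Spec.map (CommRingCat.ofHom (algebraMap A B)) ≫ yA)
  {T T' : Type u} [CommRing T] [Algebra A T] [CommRing T'] [Algebra A T']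

/-- The group element moving one point to the other. -/
def dgrp (p q : B →ₐ[A] T) : testObj yA T ⟶ G :=
  AssocBundle.div hcart (tpt yA xB h p) (tpt yA xB h q) (tpt_φ yA xB h p q)

theorem tmap_dgrp (f : T →ₐ[A] T') (p q : B →ₐ[A] T) :
    tmap yA f ≫ dgrp hcart yA xB h p q = dgrp hcart yA xB h (f.comp p) (f.comp q) := by
  symm
  apply AssocBundle.div_eq hcart
  rw [← tmap_tpt, ← tmap_tpt, ← comp_lift, Category.assoc, dgrp, AssocBundle.div_act]

theorem dgrp_mul (p q r : B →ₐ[A] T) :
    dgrp hcart yA xB h p q * dgrp hcart yA xB h q r = dgrp hcart yA xB h p r := by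
  symm
  apply AssocBundle.div_eq hcart
  rw [AlgGrp.Action.lift_mul_act, dgrp, dgrp, AssocBundle.div_act, AssocBundle.div_act]

theorem dgrp_self (p : B →ₐ[A] T) : dgrp hcart yA xB h p p = 1 := by
  apply AssocBundle.div_eq hcart
  rw [AlgGrp.Action.lift_one_act]

/-- Its matrix. -/
def dmatG (p q : B →ₐ[A] T) : Matrix.GeneralLinearGroup (Fin n) T :=
  (exists_eq_matPt (dgrp hcart yA xB h p q ≫ j)).choose

omit [IsMonHom j] in
theorem matPt_dmatG (p q : B →ₐ[A] T) :
    matPt (S := S) _ (dmatG j hcart yA xB h p q) = dgrp hcart yA xB h p q ≫ j :=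
  (exists_eq_matPt (dgrp hcart yA xB h p q ≫ j)).choose_spec.symm

omit [IsMonHom j] in
theorem map_dmatG (f : T →ₐ[A] T') (p q : B →ₐ[A] T) :
    dmatG j hcart yA xB h (f.comp p) (f.comp q) =
      Matrix.GeneralLinearGroup.map f.toRingHom (dmatG j hcart yA xB h p q) := by
  apply matPt_injective (S := S) (str := Spec.map (CommRingCat.ofHom (algebraMap A T')) ≫ yA ≫ Y.hom)
  rw [← tmap_matPt, matPt_dmatG, matPt_dmatG]
  exact (congrArg (· ≫ j) (tmap_dgrp hcart yA xB h f p q).symm).trans (Category.assoc _ _ _)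

theorem dmatG_mul (p q r : B →ₐ[A] T) :
    dmatG j hcart yA xB h p q * dmatG j hcart yA xB h q r = dmatG j hcart yA xB h p r := by
  apply matPt_injective (S := S) (str := Spec.map (CommRingCat.ofHom (algebraMap A T)) ≫ yA ≫ Y.hom)
  rw [matPt_mul, matPt_dmatG, matPt_dmatG, matPt_dmatG, ← MonObj.mul_comp, dgrp_mul]

theorem dmatG_self (p : B →ₐ[A] T) : dmatG j hcart yA xB h p p = 1 := by
  apply matPt_injective (S := S) (str := Spec.map (CommRingCat.ofHom (algebraMap A T)) ≫ yA ≫ Y.hom)
  rw [matPt_one, matPt_dmatG, dgrp_self, MonObj.one_comp]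

include hcart h in
/-- The bundle associated to a torsor and a homomorphism into `GL_n` has sections over local rings. -/
theorem exists_assoc_section_of_local [IsLocalRing A] [Module.FaithfullyFlat A B] {Q : Over S}
    (q : X ⊗ FrB.GLn n S ⟶ Q) (r : Q ⟶ Y) (hqr : q ≫ r = fst _ _ ≫ φ)
    (hinv : (a.prod (AssocBundle.cosetAction j)).act ≫ q = snd _ _ ≫ q) :
    ∃ s : Spec (CommRingCat.of A) ⟶ Q.left, s ≫ r.left = yA := by
  let d := dmatG j hcart yA xB h (ι₁ (A := A) (B := B)) ι₂
  have hd (T : Type u) [CommRing T] [Algebra A T] (c₁ c₂ : B →ₐ[A] T) :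
      (Algebra.TensorProduct.lift c₁ c₂ fun _ _ => Commute.all _ _).toRingHom.mapMatrix d.val =
        (dmatG j hcart yA xB h c₁ c₂).val := by
    have e := map_dmatG j hcart yA xB h (Algebra.TensorProduct.lift c₁ c₂ fun _ _ => Commute.all _ _) ι₁ ι₂
    rw [show (Algebra.TensorProduct.lift c₁ c₂ fun _ _ => Commute.all _ _).comp (ι₁ (A := A) (B := B)) = c₁ from
        AlgHom.ext fun b => by simp,
      show (Algebra.TensorProduct.lift c₁ c₂ fun _ _ => Commute.all _ _).comp (ι₂ (A := A) (B := B)) = c₂ from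
        AlgHom.ext fun b => by simp] at e
    rw [e]
    rfl
  obtain ⟨P, hP, hPeq⟩ := exists_coboundary (A := A) (B := B) d.val
    (by rw [hd, hd, hd, ← Units.val_mul, dmatG_mul])
    (by
      have e := map_dmatG j hcart yA xB h (Algebra.TensorProduct.lmul' A (S := B)) ι₁ ι₂
      rw [Algebra.TensorProduct.lmul'_comp_includeLeft, Algebra.TensorProduct.lmul'_comp_includeRight,
        dmatG_self] at e
      exact (congrArg Units.val e).symm)
  let u : Matrix.GeneralLinearGroup (Fin n) B := Matrix.GeneralLinearGroup.mk'' P hP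
  have hu : d * Matrix.GeneralLinearGroup.map (ι₂ (A := A)).toRingHom u =
      Matrix.GeneralLinearGroup.map (ι₁ (A := A)).toRingHom u := Units.ext hPeq
  let q₀ : testObj yA B ⟶ Q := lift (tpt yA xB h (AlgHom.id A B)) (matPt _ u⁻¹) ≫ q
  have hq : tmap yA (ι₁ (A := A) (B := B)) ≫ q₀ = tmap yA (ι₂ (A := A) (B := B)) ≫ q₀ := by
    simp only [q₀, comp_lift_assoc, tmap_matPt, tmap_tpt, AlgHom.comp_id, map_inv]
    have e : Matrix.GeneralLinearGroup.map (ι₁ (A := A)).toRingHom u =
        d * Matrix.GeneralLinearGroup.map (ι₂ (A := A)).toRingHom u := hu.symm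
    let g := dgrp hcart yA xB h (ι₁ (A := A) (B := B)) ι₂
    have h1 : lift (tpt yA xB h (ι₁ (A := A) (B := B)))
        (matPt (S := S) _ (Matrix.GeneralLinearGroup.map (ι₁ (A := A)).toRingHom u)⁻¹) =
        lift g (lift (tpt yA xB h (ι₂ (A := A) (B := B)))
          (matPt (S := S) _ (Matrix.GeneralLinearGroup.map (ι₂ (A := A)).toRingHom u)⁻¹)) ≫
          (a.prod (AssocBundle.cosetAction j)).act := by
      rw [AlgGrp.Action.lift_prod_act, AssocBundle.lift_cosetAction]
      congr 1
      · exact (AssocBundle.div_act hcart _ _ _).symm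
      · rw [e, mul_inv_rev, matPt_mul, ← matPt_dmatG]
        congr 1
        apply eq_inv_of_mul_eq_one_left
        rw [← matPt_mul, inv_mul_cancel, matPt_one]
    rw [h1, Category.assoc, hinv, lift_snd_assoc]
  let p := Spec.map (CommRingCat.ofHom (algebraMap A B))
  haveI : Flat p := by
    rw [Flat.SpecMap_iff, CommRingCat.hom_ofHom, RingHom.flat_algebraMap_iff]; infer_instance
  haveI : Surjective p := ⟨PrimeSpectrum.comap_surjective_of_faithfullyFlat⟩
  haveI : EffectiveEpi p := inferInstance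
  have hdesc : ∀ {Z : Scheme.{u}} (g₁ g₂ : Z ⟶ Spec (CommRingCat.of B)), g₁ ≫ p = g₂ ≫ p →
      g₁ ≫ q₀.left = g₂ ≫ q₀.left := by
    intro Z g₁ g₂ e
    let l : Z ⟶ Spec (CommRingCat.of (B ⊗[A] B)) := pullback.lift g₁ g₂ e ≫ (pullbackSpecIso A B B).hom
    have e1 : g₁ = l ≫ Spec.map (CommRingCat.ofHom (ι₁ (A := A) (B := B)).toRingHom) := by
      rw [Category.assoc]
      have := (Iso.eq_inv_comp (pullbackSpecIso A B B)).mp (pullbackSpecIso_inv_fst A B B).symm
      exact (pullback.lift_fst g₁ g₂ e).symm.trans (congrArg (pullback.lift g₁ g₂ e ≫ ·) this.symm)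
    have e2 : g₂ = l ≫ Spec.map (CommRingCat.ofHom (ι₂ (A := A) (B := B)).toRingHom) := by
      rw [Category.assoc]
      have := (Iso.eq_inv_comp (pullbackSpecIso A B B)).mp (pullbackSpecIso_inv_snd A B B).symm
      exact (pullback.lift_snd g₁ g₂ e).symm.trans (congrArg (pullback.lift g₁ g₂ e ≫ ·) this.symm)
    rw [e1, e2, Category.assoc, Category.assoc]
    exact congrArg (l ≫ ·) (congrArg (fun m => m.left) hq)
  refine ⟨EffectiveEpi.desc p q₀.left hdesc, ?_⟩
  rw [← cancel_epi p, EffectiveEpi.fac_assoc]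
  have hφ : q₀ ≫ r = tpt yA xB h (AlgHom.id A B) ≫ φ := by
    simp only [q₀, Category.assoc, hqr, lift_fst_assoc]
  refine (congrArg (fun m => m.left) hφ).trans ?_
  show (Spec.map (CommRingCat.ofHom (RingHom.id B)) ≫ xB) ≫ φ.left = _
  rw [show CommRingCat.ofHom (RingHom.id B) = 𝟙 (CommRingCat.of B) from rfl, Spec.map_id, Category.id_comp, h]

end

end Groth.Agent.SpecialGL
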