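import Groth.Agent.SpecialGLLib.Descent
import Groth.Agent.Comodule.PrimUnip
import Groth.Agent.DynLib.Basic

/-!
# Splitting of cocycles with values in an affine group over local rings

An affine group is given by a Hopf algebra `A`.  We show that the class of groups all of whose cocycles on faithfully
flat algebras over local rings split after a faithfully flat refinement is closed under extensions by the additive
group and by split tori.
-/

set_option autoImplicit false
set_option maxHeartbeats 1000000
set_option linter.style.haveILetI false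

universe u

open TensorProduct WithConv

noncomputable section

namespace Groth.Agent.SpecialGL.Hopf

open Groth.Agent.DynLib (groupPoints)

variable (k : Type u) [Field k] (A : Type u) [CommRing A] [HopfAlgebra k A]

/-- A cocycle with values in the points of `A`, as a function of two points of the cover. -/
structure Coc (R B : Type u) [CommRing R] [CommRing B] [Algebra k R] [Algebra R B] where
  /-- The value on two points. -/
  D : ∀ {T : Type u} [CommRing T] [Algebra k T] [Algebra R T] [IsScalarTower k R T],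
    (B →ₐ[R] T) → (B →ₐ[R] T) → WithConv (A →ₐ[k] T)
  nat : ∀ {T T' : Type u} [CommRing T] [Algebra k T] [Algebra R T] [IsScalarTower k R T] [CommRing T']
    [Algebra k T'] [Algebra R T'] [IsScalarTower k R T'] (f : T →ₐ[R] T') (p q : B →ₐ[R] T),
    D (f.comp p) (f.comp q) = toConv ((f.restrictScalars k).comp (D p q).ofConv)
  mul : ∀ {T : Type u} [CommRing T] [Algebra k T] [Algebra R T] [IsScalarTower k R T] (p q r : B →ₐ[R] T),
    D p q * D q r = D p r

/-- Every cocycle over the ring `R` splits after a faithfully flat refinement. -/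
def CocSplitOn (R : Type u) [CommRing R] [Algebra k R] : Prop :=
  ∀ (B : Type u) [CommRing B] [Algebra R B] [Module.FaithfullyFlat R B] (c : Coc k A R B),
    ∃ (B' : Type u) (_ : CommRing B') (_ : Algebra k B') (_ : Algebra R B') (_ : IsScalarTower k R B')
      (_ : Module.FaithfullyFlat R B') (f : B →ₐ[R] B') (u : WithConv (A →ₐ[k] B')),
      ∀ (T : Type u) [CommRing T] [Algebra k T] [Algebra R T] [IsScalarTower k R T] (p q : B' →ₐ[R] T),
        c.D (p.comp f) (q.comp f) * toConv ((q.restrictScalars k).comp u.ofConv) =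
          toConv ((p.restrictScalars k).comp u.ofConv)

/-- Every cocycle over a local ring splits after a faithfully flat refinement. -/
def CocSplit : Prop :=
  ∀ (R : Type u) [CommRing R] [IsLocalRing R] [Algebra k R], CocSplitOn k A R

variable {k A}

/-- The image of a point under an algebra map. -/
def push {T T' : Type u} [CommRing T] [CommRing T'] [Algebra k T] [Algebra k T'] (g : T →ₐ[k] T')
    (u : WithConv (A →ₐ[k] T)) : WithConv (A →ₐ[k] T') :=
  toConv (g.comp u.ofConv)

theorem push_mul {T T' : Type u} [CommRing T] [CommRing T'] [Algebra k T] [Algebra k T'] (g : T →ₐ[k] T')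
    (u v : WithConv (A →ₐ[k] T)) : push g (u * v) = push g u * push g v :=
  congrArg toConv (AlgHom.comp_convMul_distrib g u v)

theorem conv_apply_primitive {x : A} (hx : Coalgebra.comul (R := k) x = x ⊗ₜ[k] (1 : A) + (1 : A) ⊗ₜ[k] x)
    {T : Type u} [CommRing T] [Algebra k T] (u v : WithConv (A →ₐ[k] T)) :
    (u * v).ofConv x = u.ofConv x + v.ofConv x := by
  rw [AlgHom.convMul_apply, hx]
  simp

theorem conv_apply_groupLike {g : A} (hg : IsGroupLikeElem k g)
    {T : Type u} [CommRing T] [Algebra k T] (u v : WithConv (A →ₐ[k] T)) :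
    (u * v).ofConv g = u.ofConv g * v.ofConv g := by
  rw [AlgHom.convMul_apply, hg.comul_eq_tmul_self]
  simp

/-- A cocycle can be restricted to a refinement. -/
def Coc.refine {R B B' : Type u} [CommRing R] [CommRing B] [CommRing B'] [Algebra k R] [Algebra R B] [Algebra R B']
    (c : Coc k A R B) (f : B →ₐ[R] B') : Coc k A R B' where
  D p q := c.D (p.comp f) (q.comp f)
  nat g p q := by rw [AlgHom.comp_assoc, AlgHom.comp_assoc]; exact c.nat g _ _
  mul p q r := c.mul _ _ _

theorem cocSplit_of_forall_eq (h : ∀ a : A, ∃ r : k, a = algebraMap k A r) (R : Type u) [CommRing R] [Algebra k R] :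
    CocSplitOn k A R := by
  intro B _ _ _ c
  letI : Algebra k B := Algebra.compHom B (algebraMap k R)
  haveI : IsScalarTower k R B := IsScalarTower.of_algebraMap_eq fun _ => rfl
  refine ⟨B, inferInstance, inferInstance, inferInstance, inferInstance, inferInstance, AlgHom.id R B, 1,
    fun T _ _ _ _ p q => WithConv.ofConv_injective (AlgHom.ext fun a => ?_)⟩
  obtain ⟨r, rfl⟩ := h a
  rw [AlgHom.commutes, AlgHom.commutes]

/-- A point of a subgroup is determined by its values; points killing the kernel factor. -/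
theorem exists_point_factor {N : Type u} [CommRing N] [HopfAlgebra k N] (π : A →ₐc[k] N)
    (hπ : Function.Surjective π) {T : Type u} [CommRing T] [Algebra k T] (v : WithConv (A →ₐ[k] T))
    (hv : ∀ a, π a = 0 → v.ofConv a = 0) :
    ∃ w : WithConv (N →ₐ[k] T), toConv (w.ofConv.comp (π : A →ₐ[k] N)) = v :=
  ⟨toConv (AlgHom.liftOfSurjective (π : A →ₐ[k] N) hπ v.ofConv (fun a ha => hv a ha)),
    WithConv.ofConv_injective (AlgHom.liftOfSurjective_comp _ _ _ _)⟩

/-- The step of the induction: if every cocycle can be moved into a subgroup whose cocycles split, all split. -/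
theorem cocSplit_step {N : Type u} [CommRing N] [HopfAlgebra k N] (π : A →ₐc[k] N) (hπ : Function.Surjective π)
    {R : Type u} [CommRing R] [Algebra k R] (hN : CocSplitOn k N R)
    (h : ∀ (B : Type u) [CommRing B] [Algebra R B]
      [Module.FaithfullyFlat R B] (c : Coc k A R B),
      ∃ (B' : Type u) (_ : CommRing B') (_ : Algebra k B') (_ : Algebra R B') (_ : IsScalarTower k R B')
        (_ : Module.FaithfullyFlat R B') (f : B →ₐ[R] B') (u : WithConv (A →ₐ[k] B')),
        ∀ (T : Type u) [CommRing T] [Algebra k T] [Algebra R T] [IsScalarTower k R T] (p q : B' →ₐ[R] T),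
          ∀ a, π a = 0 → ((push (p.restrictScalars k) u)⁻¹ * c.D (p.comp f) (q.comp f) *
            push (q.restrictScalars k) u).ofConv a = 0) :
    CocSplitOn k A R := by
  intro B _ _ _ c
  obtain ⟨B', _, _, _, _, _, f, u, hu⟩ := h B c
  let pull : ∀ {T : Type u} [CommRing T] [Algebra k T], WithConv (N →ₐ[k] T) → WithConv (A →ₐ[k] T) :=
    fun {T} _ _ w => toConv (w.ofConv.comp (π : A →ₐ[k] N))
  have pull_mul : ∀ {T : Type u} [CommRing T] [Algebra k T] (w w' : WithConv (N →ₐ[k] T)),
      pull (w * w') = pull w * pull w' :=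
    fun {T} _ _ w w' => congrArg toConv (AlgHom.convMul_comp_bialgHom_distrib w w' π)
  have pull_inj : ∀ {T : Type u} [CommRing T] [Algebra k T], Function.Injective (pull (T := T)) := by
    intro T _ _ w w' e
    refine WithConv.ofConv_injective (AlgHom.ext fun n => ?_)
    obtain ⟨a, rfl⟩ := hπ n
    exact DFunLike.congr_fun (congrArg WithConv.ofConv e) a
  let DN : ∀ {T : Type u} [CommRing T] [Algebra k T] [Algebra R T] [IsScalarTower k R T],
      (B' →ₐ[R] T) → (B' →ₐ[R] T) → WithConv (N →ₐ[k] T) :=
    fun {T} _ _ _ _ p q => (exists_point_factor π hπ _ (hu T p q)).choose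
  have hDN : ∀ {T : Type u} [CommRing T] [Algebra k T] [Algebra R T] [IsScalarTower k R T] (p q : B' →ₐ[R] T),
      pull (DN p q) =
        (push (p.restrictScalars k) u)⁻¹ * c.D (p.comp f) (q.comp f) * push (q.restrictScalars k) u :=
    fun {T} _ _ _ _ p q => (exists_point_factor π hπ _ (hu T p q)).choose_spec
  let cN : Coc k N R B' :=
    { D := fun p q => DN p q
      nat := by
        intro T T' _ _ _ _ _ _ _ _ g p q
        apply pull_inj
        rw [hDN, AlgHom.comp_assoc, AlgHom.comp_assoc, c.nat g]
        have e : ∀ r : B' →ₐ[R] T, push ((g.comp r).restrictScalars k) u =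
            push (g.restrictScalars k) (push (r.restrictScalars k) u) := fun r => rfl
        rw [e, e]
        let G : WithConv (A →ₐ[k] T) →* WithConv (A →ₐ[k] T') :=
          MonoidHom.mk' (push (g.restrictScalars k)) (push_mul _)
        show (G _)⁻¹ * G (c.D (p.comp f) (q.comp f)) * G _ = _
        rw [← map_inv, ← map_mul, ← map_mul, ← hDN p q]
        rfl
      mul := by
        intro T _ _ _ _ p q r
        apply pull_inj
        rw [pull_mul, hDN, hDN, hDN, ← c.mul (p.comp f) (q.comp f) (r.comp f)]
        group }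
  obtain ⟨B'', _, _, _, _, _, g, w, hw⟩ := hN B' cN
  refine ⟨B'', inferInstance, inferInstance, inferInstance, inferInstance, inferInstance, g.comp f,
    push (g.restrictScalars k) u * pull w, fun T _ _ _ _ p q => ?_⟩
  have h1 := congrArg pull (hw T p q)
  rw [pull_mul] at h1
  show c.D _ _ * push (q.restrictScalars k) (push (g.restrictScalars k) u * pull w) =
    push (p.restrictScalars k) (push (g.restrictScalars k) u * pull w)
  rw [push_mul, push_mul]
  have h2 : pull (cN.D (p.comp g) (q.comp g)) * push (q.restrictScalars k) (pull w) =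
      push (p.restrictScalars k) (pull w) := h1
  rw [← h2, hDN]
  simp only [← mul_assoc]
  rw [show push (p.restrictScalars k) (push (g.restrictScalars k) u) = push ((p.comp g).restrictScalars k) u from rfl,
    show push (q.restrictScalars k) (push (g.restrictScalars k) u) = push ((q.comp g).restrictScalars k) u from rfl,
    mul_inv_cancel, _root_.one_mul, AlgHom.comp_assoc, AlgHom.comp_assoc]

/-- Lift a point of a quotient after a faithfully flat refinement. -/
theorem exists_lift_point {C : Type u} [CommRing C] [Algebra k C] (ψ : C →ₐ[k] A)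
    (hψ : (ψ : C →+* A).FaithfullyFlat) {R B : Type u} [CommRing R] [CommRing B] [Algebra k R] [Algebra k B]
    [Algebra R B] [IsScalarTower k R B] [Module.FaithfullyFlat R B] (v : C →ₐ[k] B) :
    ∃ (B' : Type u) (_ : CommRing B') (_ : Algebra k B') (_ : Algebra R B') (_ : IsScalarTower k R B')
      (_ : Module.FaithfullyFlat R B') (f : B →ₐ[R] B') (u : WithConv (A →ₐ[k] B')),
      u.ofConv.comp ψ = (f.restrictScalars k).comp v := by
  letI : Algebra C A := (ψ : C →+* A).toAlgebra
  letI : Algebra C B := (v : C →+* B).toAlgebra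
  haveI : Module.FaithfullyFlat C A := hψ
  let B' := B ⊗[C] A
  haveI : IsScalarTower k R B' := TensorProduct.isScalarTower_left
  haveI : Module.FaithfullyFlat B B' := inferInstance
  haveI : Module.FaithfullyFlat R B' := Module.FaithfullyFlat.trans R B B'
  let u0 : A →+* B' := (Algebra.TensorProduct.includeRight : A →ₐ[C] B').toRingHom
  have hu0 : ∀ x : C, u0 (ψ x) = algebraMap B B' (v x) := fun x => by
    show (1 : B) ⊗ₜ[C] (algebraMap C A x) = (algebraMap C B x) ⊗ₜ[C] (1 : A)
    rw [Algebra.algebraMap_eq_smul_one, ← TensorProduct.smul_tmul, ← Algebra.algebraMap_eq_smul_one]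
  let u : A →ₐ[k] B' :=
    { u0 with
      commutes' := fun r => by
        show u0 (algebraMap k A r) = algebraMap B B' (algebraMap k B r)
        rw [← ψ.commutes r, hu0, v.commutes] }
  exact ⟨B', inferInstance, inferInstance, inferInstance, inferInstance, inferInstance,
    IsScalarTower.toAlgHom R B B', toConv u, AlgHom.ext fun x => hu0 x⟩

section Base

variable {R B : Type u} [CommRing R] [CommRing B] [Algebra k R] [Algebra R B]

/-- The universal value of a cocycle. -/
theorem Coc.apply_eq (c : Coc k A R B) [Algebra k B] [IsScalarTower k R B]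
    {T : Type u} [CommRing T] [Algebra k T] [Algebra R T] [IsScalarTower k R T] (p q : B →ₐ[R] T) (a : A) :
    (c.D p q).ofConv a = Algebra.TensorProduct.lift p q (fun _ _ => Commute.all _ _)
      ((c.D (ι₁ (A := R) (B := B)) ι₂).ofConv a) := by
  have e := c.nat (Algebra.TensorProduct.lift p q fun _ _ => Commute.all _ _) (ι₁ (A := R) (B := B)) ι₂
  rw [show (Algebra.TensorProduct.lift p q fun _ _ => Commute.all _ _).comp (ι₁ (A := R) (B := B)) = p from
      AlgHom.ext fun b => by simp,
    show (Algebra.TensorProduct.lift p q fun _ _ => Commute.all _ _).comp (ι₂ (A := R) (B := B)) = q from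
      AlgHom.ext fun b => by simp] at e
  exact DFunLike.congr_fun (congrArg WithConv.ofConv e) a

theorem Coc.self (c : Coc k A R B) {T : Type u} [CommRing T] [Algebra k T] [Algebra R T] [IsScalarTower k R T]
    (p : B →ₐ[R] T) : c.D p p = 1 := by
  have h := c.mul p p p
  calc c.D p p = (c.D p p)⁻¹ * (c.D p p * c.D p p) := by group
    _ = 1 := by rw [h, inv_mul_cancel]

variable [Module.FaithfullyFlat R B] [Algebra k B] [IsScalarTower k R B]

theorem lmul'_eq_lift : Algebra.TensorProduct.lmul' R (S := B) =
    Algebra.TensorProduct.lift (AlgHom.id R B) (AlgHom.id R B) (fun _ _ => Commute.all _ _) :=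
  Algebra.TensorProduct.ext (AlgHom.ext fun b => by simp) (AlgHom.ext fun b => by simp)

/-- Invariant elements descend. -/
theorem mem_range_of_ι_eq (b : B) (h : ι₂ (A := R) b = ι₁ (A := R) b) : b ∈ Set.range (algebraMap R B) :=
  ((Algebra.IsEffective.of_faithfullyFlat R B) b).mp (sub_eq_zero.mpr h.symm)

/-- If elements of the base generate the unit ideal upstairs, they do so downstairs. -/
theorem span_eq_top_of_faithfullyFlat {ι : Type*} (r : ι → R) (c : ι → B) (s : Finset ι)
    (h : ∑ i ∈ s, c i * algebraMap R B (r i) = 1) : ∃ c' : ι → R, ∑ i ∈ s, c' i * r i = 1 := by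
  classical
  let I : Ideal R := Ideal.span (r '' (s : Set ι))
  have hI : I.map (algebraMap R B) = ⊤ := (Ideal.eq_top_iff_one _).mpr (by
    rw [← h]
    exact sum_mem fun i hi => Ideal.mul_mem_left _ _ (Ideal.mem_map_of_mem _ (Ideal.subset_span ⟨i, hi, rfl⟩)))
  have h1 : I = ⊤ := by
    have := Ideal.comap_map_eq_self_of_faithfullyFlat (B := B) I
    rw [hI, Ideal.comap_top] at this
    exact this.symm
  have h2 : (1 : R) ∈ Submodule.span R (r '' (s : Set ι)) := (Ideal.eq_top_iff_one _).mp h1
  obtain ⟨c', hc'⟩ := (Submodule.mem_span_image_finset_iff_exists_fun R).mp h2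
  refine ⟨fun i => if hi : i ∈ s then c' ⟨i, hi⟩ else 0, ?_⟩
  rw [← hc', ← Finset.sum_attach s, Finset.univ_eq_attach]
  refine Finset.sum_congr rfl fun i _ => ?_
  simp

/-- The invariant vectors of a cocycle span. -/
theorem exists_combination {n : ℕ} (g : ∀ {T : Type u} [CommRing T] [Algebra R T],
      (B →ₐ[R] T) → (B →ₐ[R] T) → Matrix (Fin n) (Fin n) T)
    (hval : ∀ {T : Type u} [CommRing T] [Algebra R T] (p q : B →ₐ[R] T),
      (Algebra.TensorProduct.lift p q fun _ _ => Commute.all _ _).toRingHom.mapMatrix (g ι₁ ι₂) = g p q)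
    (hmul : ∀ {T : Type u} [CommRing T] [Algebra R T] (p q r : B →ₐ[R] T), g p q * g q r = g p r)
    (hone : ∀ {T : Type u} [CommRing T] [Algebra R T] (p : B →ₐ[R] T), g p p = 1) (v : Fin n → B) :
    ∃ (m : ℕ) (b : Fin m → B) (w : Fin m → Fin n → B),
      (∀ l i, ∑ j, g (ι₁ (A := R)) ι₂ i j * ι₂ (A := R) (w l j) = ι₁ (A := R) (w l i)) ∧
      ∀ i, v i = ∑ l, b l * w l i := by
  have hb := bijective_compare (A := R) (B := B) (g ι₁ ι₂) (by rw [hval, hval, hval, hmul])
    (by rw [lmul'_eq_lift, hval, hone])
  obtain ⟨z, hz⟩ := hb.2 v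
  obtain ⟨S, hS⟩ := TensorProduct.exists_finset z
  refine ⟨S.card, fun l => (S.equivFin.symm l).1.1, fun l => ((S.equivFin.symm l).1.2 : Fin n → B), fun l i => ?_, fun i => ?_⟩
  · exact sub_eq_zero.mp (congrFun (LinearMap.mem_ker.mp (S.equivFin.symm l).1.2.2) i)
  · rw [← hz, hS, map_sum, Finset.sum_apply, ← Finset.sum_coe_sort]
    rw [Equiv.sum_comp S.equivFin.symm fun x : S => x.1.1 * ((x.1.2 : inv (g ι₁ ι₂)) : Fin n → B) i]
    refine Finset.sum_congr rfl fun x _ => ?_
    simp [compare_tmul]

/-- The value of a cocycle at a fixed element, without choosing scalar structures. -/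
def Coc.val (c : Coc k A R B) (a : A) {T : Type u} [CommRing T] [Algebra R T] (p q : B →ₐ[R] T) : T :=
  letI : Algebra k T := Algebra.compHom T (algebraMap k R)
  haveI : IsScalarTower k R T := IsScalarTower.of_algebraMap_eq fun _ => rfl
  (c.D p q).ofConv a

theorem Coc.val_eq (c : Coc k A R B) (a : A) {T : Type u} [CommRing T] [Algebra k T] [Algebra R T] [IsScalarTower k R T]
    (p q : B →ₐ[R] T) : c.val a p q = (c.D p q).ofConv a := by
  have e := c.apply_eq p q a
  letI : Algebra k T := Algebra.compHom T (algebraMap k R)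
  haveI : IsScalarTower k R T := IsScalarTower.of_algebraMap_eq fun _ => rfl
  exact (c.apply_eq p q a).trans e.symm

theorem Coc.val_lift (c : Coc k A R B) (a : A) {T : Type u} [CommRing T] [Algebra R T] (p q : B →ₐ[R] T) :
    Algebra.TensorProduct.lift p q (fun _ _ => Commute.all _ _) (c.val a (ι₁ (A := R) (B := B)) ι₂) = c.val a p q := by
  letI : Algebra k T := Algebra.compHom T (algebraMap k R)
  haveI : IsScalarTower k R T := IsScalarTower.of_algebraMap_eq fun _ => rfl
  rw [c.val_eq, c.val_eq]
  exact (c.apply_eq p q a).symm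

theorem Coc.val_mul_groupLike (c : Coc k A R B) {γ : A} (hγ : IsGroupLikeElem k γ)
    {T : Type u} [CommRing T] [Algebra R T] (p q r : B →ₐ[R] T) : c.val γ p q * c.val γ q r = c.val γ p r := by
  letI : Algebra k T := Algebra.compHom T (algebraMap k R)
  haveI : IsScalarTower k R T := IsScalarTower.of_algebraMap_eq fun _ => rfl
  rw [c.val_eq, c.val_eq, c.val_eq, ← conv_apply_groupLike hγ, c.mul]

theorem Coc.val_self_groupLike (c : Coc k A R B) {γ : A} (hγ : IsGroupLikeElem k γ)
    {T : Type u} [CommRing T] [Algebra R T] (p : B →ₐ[R] T) : c.val γ p p = 1 := by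
  letI : Algebra k T := Algebra.compHom T (algebraMap k R)
  haveI : IsScalarTower k R T := IsScalarTower.of_algebraMap_eq fun _ => rfl
  rw [c.val_eq, c.self, AlgHom.convOne_apply, hγ.counit_eq_one, map_one]

theorem Coc.val_add_primitive (c : Coc k A R B) {x : A}
    (hx : Coalgebra.comul (R := k) x = x ⊗ₜ[k] (1 : A) + (1 : A) ⊗ₜ[k] x)
    {T : Type u} [CommRing T] [Algebra R T] (p q r : B →ₐ[R] T) : c.val x p q + c.val x q r = c.val x p r := by
  letI : Algebra k T := Algebra.compHom T (algebraMap k R)
  haveI : IsScalarTower k R T := IsScalarTower.of_algebraMap_eq fun _ => rfl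
  rw [c.val_eq, c.val_eq, c.val_eq, ← conv_apply_primitive hx, c.mul]

/-- The functions invariant under a multiplicative cocycle. -/
def invFn (c : Coc k A R B) (γ : A) : Submodule R B where
  carrier := {v | c.val γ (ι₁ (A := R) (B := B)) ι₂ * ι₂ (A := R) v = ι₁ (A := R) v}
  add_mem' {v w} hv hw := by
    simp only [Set.mem_setOf_eq, map_add, mul_add] at hv hw ⊢
    rw [hv, hw]
  zero_mem' := by simp
  smul_mem' r v hv := by
    simp only [Set.mem_setOf_eq, map_smul, Algebra.mul_smul_comm] at hv ⊢
    rw [hv]

theorem exists_combination_groupLike (c : Coc k A R B) {γ : A} (hγ : IsGroupLikeElem k γ) :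
    ∃ (m : ℕ) (b : Fin m → B) (w : Fin m → invFn c γ), ∑ l, b l * (w l : B) = 1 := by
  obtain ⟨m, b, w, hw, hsum⟩ := exists_combination (R := R) (B := B) (n := 1)
    (fun {T} _ _ p q => Matrix.of fun _ _ => c.val γ p q)
    (fun {T} _ _ p q => by ext i j; exact c.val_lift γ p q)
    (fun {T} _ _ p q r => by
      ext i j
      rw [Matrix.mul_apply, Fin.sum_univ_one]
      exact c.val_mul_groupLike hγ p q r)
    (fun {T} _ _ p => by
      ext i j
      rw [Matrix.of_apply, c.val_self_groupLike hγ, Subsingleton.elim i j, Matrix.one_apply_eq])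
    (fun _ => 1)
  refine ⟨m, b, fun l => ⟨w l 0, ?_⟩, (hsum 0).symm⟩
  have h1 := hw l 0
  rw [Fin.sum_univ_one] at h1
  exact h1

/-- A multiplicative cocycle of functions is a coboundary when the base has no line bundles. -/
theorem exists_unit_coboundary [Subsingleton (CommRing.Pic R)] (c : Coc k A R B) (γ : GroupLike k A) :
    ∃ w : Bˣ, ∀ (T : Type u) [CommRing T] [Algebra k T] [Algebra R T] [IsScalarTower k R T] (p q : B →ₐ[R] T),
      (c.D p q).ofConv (γ : A) * q w = p w := by
  classical
  obtain ⟨m, b, v, hv⟩ := exists_combination_groupLike c γ.isGroupLikeElem_val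
  obtain ⟨m', b', v', hv'⟩ := exists_combination_groupLike c (γ⁻¹ : GroupLike k A).isGroupLikeElem_val
  let M := invFn c (γ : A)
  let N := invFn c ((γ⁻¹ : GroupLike k A) : A)
  have hγγ : c.val (γ : A) (ι₁ (A := R) (B := B)) ι₂ * c.val ((γ⁻¹ : GroupLike k A) : A) ι₁ ι₂ = 1 := by
    haveI : IsScalarTower k R (B ⊗[R] B) := TensorProduct.isScalarTower_left
    rw [c.val_eq, c.val_eq, ← map_mul, ← GroupLike.val_mul, mul_inv_cancel, GroupLike.val_one, map_one]
  have hpair : ∀ (x : M) (y : N), (x : B) * y ∈ Set.range (algebraMap R B) := by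
    intro x y
    refine mem_range_of_ι_eq _ ?_
    have hx : _ * ι₂ (A := R) (x : B) = ι₁ (A := R) (x : B) := x.2
    have hy : _ * ι₂ (A := R) (y : B) = ι₁ (A := R) (y : B) := y.2
    rw [map_mul, map_mul, ← hx, ← hy, mul_mul_mul_comm, hγγ, _root_.one_mul]
  choose r hr using hpair
  haveI : FaithfulSMul R B := Module.FaithfullyFlat.faithfulSMul
  have hinj := FaithfulSMul.algebraMap_injective R B
  let e0 : M →ₗ[R] N →ₗ[R] R := LinearMap.mk₂ R r
    (fun x x' y => hinj (by simp [hr, add_mul])) (fun a x y => hinj (by simp [hr, Algebra.smul_def, mul_assoc]))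
    (fun x y y' => hinj (by simp [hr, mul_add])) (fun a x y => hinj (by simp [hr, Algebra.smul_def, mul_left_comm]))
  let e : M ⊗[R] N →ₗ[R] R := TensorProduct.lift e0
  obtain ⟨c', hc'⟩ : ∃ c' : Fin m × Fin m' → R, ∑ i, c' i * r (v i.1) (v' i.2) = 1 := by
    refine span_eq_top_of_faithfullyFlat (B := B) _ (fun i => b i.1 * b' i.2) Finset.univ ?_
    have h11 : (∑ l, b l * (v l : B)) * ∑ l, b' l * (v' l : B) = 1 := by rw [hv, hv', _root_.one_mul]
    rw [Fintype.sum_prod_type, ← h11, Finset.sum_mul_sum]
    refine Finset.sum_congr rfl fun i _ => Finset.sum_congr rfl fun j _ => ?_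
    rw [hr]
    ring
  let z₀ : M ⊗[R] N := ∑ i, c' i • (v i.1 ⊗ₜ v' i.2)
  have hz₀ : e z₀ = 1 := by simpa [z₀, e, e0] using hc'
  have hkey : ∀ z, z = e z • z₀ := by
    intro z
    induction z with
    | zero => simp
    | add z z' hz hz' => rw [map_add, add_smul, ← hz, ← hz']
    | tmul x y =>
      conv_lhs => rw [← one_smul R (x ⊗ₜ[R] y), ← hc', Finset.sum_smul]
      rw [show e (x ⊗ₜ[R] y) = r x y from rfl, Finset.smul_sum]
      refine Finset.sum_congr rfl fun i _ => ?_
      have h2 : r (v i.1) (v' i.2) • y = r (v i.1) y • v' i.2 := Subtype.ext (by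
        simp only [SetLike.val_smul, Algebra.smul_def, hr]; ring)
      have h3 : r (v i.1) y • x = r x y • v i.1 := Subtype.ext (by
        simp only [SetLike.val_smul, Algebra.smul_def, hr]; ring)
      rw [mul_smul, ← TensorProduct.tmul_smul, h2, ← TensorProduct.smul_tmul, h3, ← TensorProduct.smul_tmul',
        smul_comm]
  haveI : Module.Invertible R M := Module.Invertible.left (LinearEquiv.ofBijective e
    ⟨fun z z' h => by rw [hkey z, hkey z', h], fun a => ⟨a • z₀, by rw [map_smul, hz₀, smul_eq_mul, _root_.mul_one]⟩⟩)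
  obtain ⟨f⟩ := Module.Invertible.free_iff_linearEquiv.mp (inferInstance : Module.Free R M)
  let w : M := f.symm 1
  have hw : IsUnit (w : B) := by
    refine IsUnit.of_mul_eq_one (∑ l, b l * algebraMap R B (f (v l))) ?_
    rw [Finset.mul_sum, ← hv]
    refine Finset.sum_congr rfl fun l _ => ?_
    have : v l = f (v l) • w := f.injective (by simp [w])
    conv_rhs => rw [this, SetLike.val_smul, Algebra.smul_def]
    ring
  refine ⟨hw.unit, fun T _ _ _ _ p q => ?_⟩
  have hwmem : _ * ι₂ (A := R) (w : B) = ι₁ (A := R) (w : B) := w.2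
  have h1 := congrArg (Algebra.TensorProduct.lift p q fun _ _ => Commute.all _ _) hwmem
  rw [map_mul, c.val_lift, c.val_eq] at h1
  simpa using h1

/-- An additive cocycle of functions is a coboundary. -/
theorem exists_add_coboundary (c : Coc k A R B) {x : A}
    (hx : Coalgebra.comul (R := k) x = x ⊗ₜ[k] (1 : A) + (1 : A) ⊗ₜ[k] x) :
    ∃ w : B, ∀ (T : Type u) [CommRing T] [Algebra k T] [Algebra R T] [IsScalarTower k R T] (p q : B →ₐ[R] T),
      (c.D p q).ofConv x + q w = p w := by
  obtain ⟨m, b, w, hw, hsum⟩ := exists_combination (R := R) (B := B) (n := 2)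
    (fun {T} _ _ p q => !![1, c.val x p q; 0, 1])
    (fun {T} _ _ p q => by
      ext i j
      fin_cases i <;> fin_cases j <;> simp [c.val_lift])
    (fun {T} _ _ p q r => by
      ext i j
      fin_cases i <;> fin_cases j <;> simp [Matrix.mul_apply, Fin.sum_univ_two]
      rw [add_comm, c.val_add_primitive hx])
    (fun {T} _ _ p => by
      have h := c.val_add_primitive hx p p p
      rw [add_eq_left] at h
      ext i j
      fin_cases i <;> fin_cases j <;> simp [h])
    (Pi.single 1 1)
  have hrow : ∀ l, ι₂ (A := R) (w l 1) = ι₁ (A := R) (w l 1) := by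
    intro l
    simpa [Fin.sum_univ_two] using hw l 1
  choose r hr using fun l => mem_range_of_ι_eq _ (hrow l)
  obtain ⟨c', hc'⟩ := span_eq_top_of_faithfullyFlat (B := B) r b Finset.univ (by
    have h := hsum 1
    rw [Pi.single_eq_same] at h
    rw [h]
    exact Finset.sum_congr rfl fun l _ => by rw [hr])
  refine ⟨∑ l, algebraMap R B (c' l) * w l 0, fun T _ _ _ _ p q => ?_⟩
  have hl : ∀ l, p (w l 0) = q (w l 0) + (c.D p q).ofConv x * algebraMap R T (r l) := by
    intro l
    have h1 := congrArg (Algebra.TensorProduct.lift p q fun _ _ => Commute.all _ _) (hw l 0)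
    simp [Fin.sum_univ_two, c.val_eq, ← c.apply_eq, ← hr] at h1
    exact h1.symm
  simp only [map_sum, map_mul, AlgHom.commutes, hl, mul_add, Finset.sum_add_distrib]
  have hone : ∑ l, algebraMap R T (c' l) * ((c.D p q).ofConv x * algebraMap R T (r l)) = (c.D p q).ofConv x := by
    calc _ = (c.D p q).ofConv x * algebraMap R T (∑ l, c' l * r l) := by
          rw [map_sum, Finset.mul_sum]
          exact Finset.sum_congr rfl fun l _ => by rw [map_mul]; ring
      _ = _ := by rw [hc', map_one, _root_.mul_one]
  rw [hone, add_comm]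

end Base

end Groth.Agent.SpecialGL.Hopf
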