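import Mathlib

/-!
# A matrix cocycle on a faithfully flat algebra over a local ring is a coboundary
-/

set_option autoImplicit false

universe u

open TensorProduct

noncomputable section

namespace Groth.Agent.SpecialGL

variable {A B : Type u} [CommRing A] [CommRing B] [Algebra A B] {n : ℕ}

/-- The two coordinate embeddings. -/
abbrev ι₁ : B →ₐ[A] B ⊗[A] B := Algebra.TensorProduct.includeLeft
/-- The two coordinate embeddings. -/
abbrev ι₂ : B →ₐ[A] B ⊗[A] B := Algebra.TensorProduct.includeRight

variable (g : Matrix (Fin n) (Fin n) (B ⊗[A] B))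

/-- The defect of a vector to be invariant. -/
def defect : (Fin n → B) →ₗ[A] (Fin n → B ⊗[A] B) where
  toFun v i := (∑ j, g i j * ι₂ (A := A) (v j)) - ι₁ (A := A) (v i)
  map_add' v w := by
    ext i
    simp only [Pi.add_apply, map_add, mul_add, Finset.sum_add_distrib]
    abel
  map_smul' a v := by
    ext i
    simp only [Pi.smul_apply, map_smul, Algebra.mul_smul_comm, RingHom.id_apply, smul_sub, Finset.smul_sum]

theorem defect_apply (v : Fin n → B) (i : Fin n) :
    defect g v i = (∑ j, g i j * ι₂ (A := A) (v j)) - ι₁ (A := A) (v i) := rfl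

theorem piRight_lTensor_defect (x : B ⊗[A] (Fin n → B)) (i : Fin n) :
    piRight A A B (fun _ : Fin n => B ⊗[A] B) ((defect g).lTensor B x) i =
      (∑ j, Algebra.TensorProduct.includeRight (g i j) *
        Algebra.TensorProduct.map (AlgHom.id A B) (ι₂ (A := A)) (piRight A A B (fun _ : Fin n => B) x j)) -
      Algebra.TensorProduct.map (AlgHom.id A B) (ι₁ (A := A)) (piRight A A B (fun _ : Fin n => B) x i) := by
  induction x with
  | zero => simp
  | tmul b v =>
    simp only [LinearMap.lTensor_tmul, piRight_apply, piRightHom_tmul, defect_apply,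
      Algebra.TensorProduct.map_tmul, AlgHom.id_apply, Algebra.TensorProduct.includeRight_apply,
      Algebra.TensorProduct.tmul_mul_tmul, _root_.one_mul, tmul_sub, tmul_sum]
  | add x y hx hy =>
    simp only [map_add, Pi.add_apply, hx, hy, mul_add, Finset.sum_add_distrib]
    abel

variable (hcoc : ((Algebra.TensorProduct.lift
      ((Algebra.TensorProduct.includeRight (A := B) (R := A)).comp (ι₁ (A := A) (B := B)))
      ((Algebra.TensorProduct.includeRight (A := B) (R := A)).comp (ι₂ (A := A) (B := B)))
      fun _ _ => Commute.all _ _).toRingHom.mapMatrix g) *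
    ((Algebra.TensorProduct.lift
      ((Algebra.TensorProduct.includeRight (A := B) (R := A)).comp (ι₂ (A := A) (B := B)))
      (Algebra.TensorProduct.includeLeft : B →ₐ[A] B ⊗[A] (B ⊗[A] B))
      fun _ _ => Commute.all _ _).toRingHom.mapMatrix g) =
    ((Algebra.TensorProduct.lift
      ((Algebra.TensorProduct.includeRight (A := B) (R := A)).comp (ι₁ (A := A) (B := B)))
      (Algebra.TensorProduct.includeLeft : B →ₐ[A] B ⊗[A] (B ⊗[A] B))
      fun _ _ => Commute.all _ _).toRingHom.mapMatrix g))
  (hdiag : (Algebra.TensorProduct.lmul' A (S := B)).toRingHom.mapMatrix g = 1)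

/-- The twisted coordinates of a vector, as a descent element. -/
def twist (u : Fin n → B) : B ⊗[A] (Fin n → B) :=
  (piRight A A B (fun _ : Fin n => B)).symm fun i =>
    Algebra.TensorProduct.comm A B B (∑ j, g i j * ι₂ (A := A) (u j))

theorem piRight_twist (u : Fin n → B) (i : Fin n) :
    piRight A A B (fun _ : Fin n => B) (twist g u) i =
      Algebra.TensorProduct.comm A B B (∑ j, g i j * ι₂ (A := A) (u j)) := by
  rw [twist, LinearEquiv.apply_symm_apply]

include hcoc in
theorem lTensor_defect_twist (u : Fin n → B) : (defect g).lTensor B (twist g u) = 0 := by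
  apply (piRight A A B (fun _ : Fin n => B ⊗[A] B)).injective
  ext i
  rw [map_zero, Pi.zero_apply, piRight_lTensor_defect]
  simp only [piRight_twist]
  have e (c : B →ₐ[A] B ⊗[A] B) (z : B ⊗[A] B) :
      Algebra.TensorProduct.map (AlgHom.id A B) c (Algebra.TensorProduct.comm A B B z) =
      Algebra.TensorProduct.lift (Algebra.TensorProduct.includeRight.comp c)
        (Algebra.TensorProduct.includeLeft : B →ₐ[A] B ⊗[A] (B ⊗[A] B)) (fun _ _ => Commute.all _ _) z := by
    induction z with
    | zero => simp
    | tmul p q => simp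
    | add p q hp hq => simp only [map_add, hp, hq]
  have e' (z : B ⊗[A] B) : Algebra.TensorProduct.lift
      ((Algebra.TensorProduct.includeRight (A := B) (R := A)).comp (ι₁ (A := A) (B := B)))
      ((Algebra.TensorProduct.includeRight (A := B) (R := A)).comp (ι₂ (A := A) (B := B)))
      (fun _ _ => Commute.all _ _) z = Algebra.TensorProduct.includeRight z := by
    induction z with
    | zero => simp
    | tmul p q => simp
    | add p q hp hq => simp only [map_add, hp, hq]
  simp only [e, map_sum, map_mul, Finset.mul_sum, ← mul_assoc, ← e']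
  rw [Finset.sum_comm, sub_eq_zero]
  refine Finset.sum_congr rfl fun l _ => ?_
  have h2 : ∀ (c : B →ₐ[A] B ⊗[A] B) (b : B), Algebra.TensorProduct.lift
      (Algebra.TensorProduct.includeRight.comp c)
      (Algebra.TensorProduct.includeLeft : B →ₐ[A] B ⊗[A] (B ⊗[A] B)) (fun _ _ => Commute.all _ _)
      (ι₂ (A := A) b) = b ⊗ₜ[A] 1 := fun c b => by simp
  rw [h2, h2, ← Finset.sum_mul]
  congr 1
  exact (Matrix.mul_apply.symm.trans (congrFun (congrFun hcoc i) l))

/-- The module of invariant vectors. -/
abbrev inv : Submodule A (Fin n → B) := LinearMap.ker (defect g)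

/-- The comparison map of the descended module. -/
def compare : B ⊗[A] inv g →ₗ[B] (Fin n → B) := LinearMap.liftBaseChange B (inv g).subtype

theorem compare_tmul (b : B) (m : inv g) : compare g (b ⊗ₜ m) = b • (m : Fin n → B) := by
  simp [compare]

theorem piRight_subtype (z : B ⊗[A] inv g) (i : Fin n) :
    piRight A A B (fun _ : Fin n => B) ((inv g).subtype.lTensor B z) i =
      Algebra.TensorProduct.comm A B B (∑ j, g i j * ι₂ (A := A) (compare g z j)) := by
  induction z with
  | zero => simp
  | tmul b m =>
    have hm : (∑ j, g i j * ι₂ (A := A) ((m : Fin n → B) j)) = ι₁ (A := A) ((m : Fin n → B) i) :=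
      sub_eq_zero.mp (congrFun (LinearMap.mem_ker.mp m.2) i)
    simp only [compare_tmul, Pi.smul_apply, smul_eq_mul, map_mul, mul_left_comm _ (ι₂ (A := A) b),
      ← Finset.mul_sum, hm]
    simp
  | add x y hx hy =>
    simp only [map_add, Pi.add_apply, hx, hy, mul_add, Finset.sum_add_distrib]

include hcoc hdiag in
theorem bijective_compare [Module.Flat A B] : Function.Bijective (compare g) := by
  constructor
  · rw [← LinearMap.ker_eq_bot, LinearMap.ker_eq_bot']
    intro z hz
    have hinj : Function.Injective ((inv g).subtype.lTensor B) :=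
      Module.Flat.lTensor_preserves_injective_linearMap _ (inv g).injective_subtype
    apply hinj
    rw [map_zero]
    apply (piRight A A B (fun _ : Fin n => B)).injective
    ext i
    rw [piRight_subtype, hz, map_zero, Pi.zero_apply]
    simp
  · intro u
    have hex := Module.Flat.lTensor_exact B (LinearMap.exact_subtype_ker_map (defect g))
    obtain ⟨z, hz⟩ := (hex _).mp (lTensor_defect_twist g hcoc u)
    refine ⟨z, ?_⟩
    have key : ∀ w : B ⊗[A] inv g, ∀ i, compare g w i = Algebra.TensorProduct.lmul' A (S := B)
        (piRight A A B (fun _ : Fin n => B) ((inv g).subtype.lTensor B w) i) := by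
      intro w i
      induction w with
      | zero => simp
      | tmul b m => simp [compare_tmul]
      | add x y hx hy => simp only [map_add, Pi.add_apply, hx, hy]
    ext i
    rw [key, hz, piRight_twist]
    have hc : ∀ x : B ⊗[A] B, Algebra.TensorProduct.lmul' A (S := B) (Algebra.TensorProduct.comm A B B x) =
        Algebra.TensorProduct.lmul' A (S := B) x := by
      intro x
      induction x with
      | zero => simp
      | tmul p q => simp [mul_comm]
      | add p q hp hq => simp only [map_add, hp, hq]
    rw [hc, map_sum]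
    have hd : ∀ j, Algebra.TensorProduct.lmul' A (S := B) (g i j) = (1 : Matrix (Fin n) (Fin n) B) i j :=
      fun j => congrFun (congrFun hdiag i) j
    simp [hd, Matrix.one_apply]

include hcoc hdiag in
/-- A cocycle with values in `GL_n` on a faithfully flat algebra over a local ring is a coboundary. -/
theorem exists_coboundary [IsLocalRing A] [Module.FaithfullyFlat A B] :
    ∃ P : Matrix (Fin n) (Fin n) B, IsUnit P.det ∧
      g * (ι₂ (A := A)).toRingHom.mapMatrix P = (ι₁ (A := A)).toRingHom.mapMatrix P := by
  classical
  let e : B ⊗[A] inv g ≃ₗ[B] (Fin n → B) := LinearEquiv.ofBijective _ (bijective_compare g hcoc hdiag)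
  haveI : Module.Flat B (B ⊗[A] inv g) := Module.Flat.of_linearEquiv e
  haveI : Module.Flat A (inv g) := Module.Flat.of_flat_tensorProduct A (inv g) B
  haveI : Module.Finite B (B ⊗[A] inv g) := Module.Finite.equiv e.symm
  haveI : Module.Finite A (inv g) := Module.Finite.of_finite_tensorProduct_of_faithfullyFlat B
  haveI : Module.Free A (inv g) := Module.free_of_flat_of_isLocalRing
  haveI : Nontrivial (B ⊗[A] A) := Module.FaithfullyFlat.lTensor_nontrivial A B A
  haveI : Nontrivial B := (TensorProduct.rid A B).symm.toEquiv.nontrivial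
  let b := Module.Free.chooseBasis A (inv g)
  let b' : Module.Basis _ B (Fin n → B) := (b.baseChange B).map e
  have hcard : Fintype.card (Module.Free.ChooseBasisIndex A (inv g)) = Fintype.card (Fin n) := by
    have := Module.finrank_eq_card_basis b'
    rw [Module.finrank_pi] at this
    exact this.symm
  let σ := Fintype.equivOfCardEq hcard
  let b'' := b'.reindex σ
  refine ⟨(Pi.basisFun B (Fin n)).toMatrix b'', ?_, ?_⟩
  · exact (Matrix.isUnit_iff_isUnit_det _).mp
      (@isUnit_of_invertible _ _ _ ((Pi.basisFun B (Fin n)).invertibleToMatrix b''))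
  · ext i l
    have hl : ∀ j, (Pi.basisFun B (Fin n)).toMatrix b'' j l = (b (σ.symm l) : Fin n → B) j := by
      intro j
      simp [Module.Basis.toMatrix_apply, b'', b', e, compare_tmul]
    rw [Matrix.mul_apply]
    simp only [RingHom.mapMatrix_apply, Matrix.map_apply, hl]
    exact sub_eq_zero.mp (congrFun (LinearMap.mem_ker.mp (b (σ.symm l)).2) i)

end Groth.Agent.SpecialGL
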