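import Groth.Agent.MonoFibre.GLPoints

/-!
# Ring points of `GL_n` as invertible matrices
-/

set_option autoImplicit false
set_option maxHeartbeats 1000000
set_option synthInstance.maxHeartbeats 400000
set_option backward.isDefEq.respectTransparency false
set_option backward.isDefEq.respectTransparency.types false
universe u

open CategoryTheory CategoryTheory.Limits MonoidalCategory CartesianMonoidalCategory MonObj AlgebraicGeometry TensorProduct

namespace Groth.Agent.SpecialGL

noncomputable section

attribute [local instance 50] MagnetHom.algZ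
attribute [local instance 10000] Algebra.toModule

attribute [-instance] CategoryTheory.Hom.commGroup

open MonoFibre.GLPoints (glPt Z)

variable {n : ℕ} {S : Scheme.{u}} {C : Type u} [CommRing C] {str : Spec (CommRingCat.of C) ⟶ S}

/-- The point given by an invertible matrix. -/
def matPt (str : Spec (CommRingCat.of C) ⟶ S) (g : Matrix.GeneralLinearGroup (Fin n) C) :
    Over.mk str ⟶ FrB.GLn n S :=
  glPt C str (CoordGrp.GLn.pt n Z.{u} g.val (g⁻¹).val.det (by rw [← Matrix.det_mul, ← Units.val_mul]; simp))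

theorem det_inv_unique {g : Matrix.GeneralLinearGroup (Fin n) C} {d : C} (h : g.val.det * d = 1) :
    (g⁻¹).val.det = d :=
  left_inv_eq_right_inv (a := g.val.det) (by rw [mul_comm, ← Matrix.det_mul, ← Units.val_mul]; simp) h

theorem exists_eq_matPt (x : Over.mk str ⟶ FrB.GLn n S) : ∃ g, x = matPt str g := by
  obtain ⟨φ₀, hφ₀⟩ : ∃ f, Spec.map f = (x.left ≫ pullback.fst _ _ : Spec (CommRingCat.of C) ⟶ _) :=
    ⟨_, Spec.map_preimage _⟩
  let φ : CoordGrp.GLn n Z.{u} →ₐ[Z.{u}] C :=
    { φ₀.hom with commutes' := fun r => RingHom.congr_fun (MonoFibre.GLPoints.ringHom_ext (φ₀.hom.comp (algebraMap Z.{u} _)) (algebraMap Z.{u} C)) r }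
  let M : Matrix (Fin n) (Fin n) C := φ.toRingHom.mapMatrix (CoordGrp.GLn.genMat n Z.{u})
  have hd : M.det * φ CoordGrp.GLn.Dinv = 1 := by
    show Matrix.det (φ.toRingHom.mapMatrix _) * φ.toRingHom _ = _
    rw [← RingHom.map_det, ← CoordGrp.GLn.det_eq, ← map_mul, CoordGrp.GLn.det_mul_Dinv, map_one]
  let g := Matrix.GeneralLinearGroup.mk'' M (.of_mul_eq_one _ hd)
  refine ⟨g, Over.OverMorphism.ext ?_⟩
  apply pullback.hom_ext
  · rw [matPt, MonoFibre.GLPoints.glPt_left_fst]
    refine hφ₀.symm.trans (congrArg Spec.map ?_)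
    have e : φ = CoordGrp.GLn.pt n Z.{u} g.val (g⁻¹).val.det
        (by rw [← Matrix.det_mul, ← Units.val_mul]; simp) := by
      refine CoordGrp.GLn.algHom_ext (fun i j => ?_) ?_
      · rw [CoordGrp.GLn.pt_X]; rfl
      · rw [CoordGrp.GLn.pt_Dinv]; exact (det_inv_unique hd).symm
    rw [← e]
    rfl
  · exact (Over.w x).trans (Over.w _).symm

theorem matPt_mul (g h : Matrix.GeneralLinearGroup (Fin n) C) :
    matPt str (g * h) = matPt str g * matPt str h := by
  rw [matPt, matPt, matPt, ← MonoFibre.GLPoints.glPt_mul]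
  congr 1
  refine CoordGrp.GLn.algHom_ext (fun i j => ?_) ?_
  · rw [CoordGrp.GLn.pt_X, AlgHom.convMul_apply, CoordGrp.GLn.comul_X, map_sum]
    simp [Matrix.mul_apply]
  · rw [CoordGrp.GLn.pt_Dinv, AlgHom.convMul_apply, CoordGrp.GLn.comul_Dinv]
    simp [Matrix.det_mul, mul_comm]

theorem matPt_one : matPt str (1 : Matrix.GeneralLinearGroup (Fin n) C) = 1 :=
  MonoFibre.GLPoints.eq_one_of_mul_self (by rw [← matPt_mul, _root_.mul_one])

theorem matPt_injective {g h : Matrix.GeneralLinearGroup (Fin n) C} (e : matPt str g = matPt str h) : g = h := by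
  refine Units.ext (Matrix.ext fun i j => ?_)
  have := AlgHom.congr_fun (MonoFibre.GLPoints.glPt_injective C str e) (CoordGrp.GLn.X i j)
  simpa using this

theorem map_matPt {C' : Type u} [CommRing C'] {str' : Spec (CommRingCat.of C') ⟶ S} (f : C →+* C')
    (q : Over.mk str' ⟶ Over.mk str) (hq : q.left = Spec.map (CommRingCat.ofHom f))
    (g : Matrix.GeneralLinearGroup (Fin n) C) :
    q ≫ matPt str g = matPt str' (Matrix.GeneralLinearGroup.map f g) := by
  apply Over.OverMorphism.ext
  apply pullback.hom_ext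
  · rw [Over.comp_left, Category.assoc, matPt, matPt, MonoFibre.GLPoints.glPt_left_fst,
      MonoFibre.GLPoints.glPt_left_fst, hq]
    change Spec.map _ ≫ Spec.map _ = Spec.map _
    rw [← Spec.map_comp, ← CommRingCat.ofHom_comp]
    congr 2
    have := CoordGrp.GLn.algHom_ext
      (f := (AlgHom.mk f (fun r => RingHom.congr_fun (MonoFibre.GLPoints.ringHom_ext (f.comp (algebraMap Z.{u} C)) (algebraMap Z.{u} C')) r) : C →ₐ[Z.{u}] C').comp
        (CoordGrp.GLn.pt n Z.{u} g.val (g⁻¹).val.det (by rw [← Matrix.det_mul, ← Units.val_mul]; simp)))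
      (g := CoordGrp.GLn.pt n Z.{u} (Matrix.GeneralLinearGroup.map f g).val
        (Matrix.GeneralLinearGroup.map f g)⁻¹.val.det (by rw [← Matrix.det_mul, ← Units.val_mul]; simp))
      (fun i j => by simp) (by
        simp only [AlgHom.comp_apply, CoordGrp.GLn.pt_Dinv]
        rw [← map_inv]
        exact RingHom.map_det f _)
    exact congrArg AlgHom.toRingHom this
  · exact (Over.w _).trans (Over.w _).symm

end

end Groth.Agent.SpecialGL
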