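import Groth.Agent.SpecialGLLib.Descent
import Groth.Agent.SpecialGLLib.Points
import Groth.Agent.AssocBundleLib.Basic

/-!
# Hilbert 90: a `GL_n`-torsor over a local ring has a section
-/

set_option autoImplicit false
set_option maxHeartbeats 1000000
set_option backward.isDefEq.respectTransparency false
set_option backward.isDefEq.respectTransparency.types false
universe u

open CategoryTheory CategoryTheory.Limits MonoidalCategory CartesianMonoidalCategory MonObj AlgebraicGeometry TensorProduct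

namespace Groth.Agent.SpecialGL

noncomputable section

attribute [-instance] CategoryTheory.Hom.commGroup

variable {n : ℕ} {S : Scheme.{u}} {X Y : Over S} {a : AlgGrp.Action (FrB.GLn n S) X} {φ : X ⟶ Y}
  (hcart : IsPullback a.act (snd (FrB.GLn n S) X) φ φ)
  {A B : Type u} [CommRing A] [CommRing B] [Algebra A B]
  (yA : Spec (CommRingCat.of A) ⟶ Y.left) (xB : Spec (CommRingCat.of B) ⟶ X.left)
  (h : xB ≫ φ.left = Spec.map (CommRingCat.ofHom (algebraMap A B)) ≫ yA)

/-- The test object of an algebra over the local base. -/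
abbrev testObj (T : Type u) [CommRing T] [Algebra A T] : Over S :=
  Over.mk (Spec.map (CommRingCat.ofHom (algebraMap A T)) ≫ yA ≫ Y.hom)

variable {T T' : Type u} [CommRing T] [Algebra A T] [CommRing T'] [Algebra A T']

theorem specMap_algHom {C C' : Type u} [CommRing C] [Algebra A C] [CommRing C'] [Algebra A C'] (f : C →ₐ[A] C') :
    Spec.map (CommRingCat.ofHom f.toRingHom) ≫ Spec.map (CommRingCat.ofHom (algebraMap A C)) =
      Spec.map (CommRingCat.ofHom (algebraMap A C')) := by
  rw [← Spec.map_comp, ← CommRingCat.ofHom_comp]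
  congr 2
  exact RingHom.ext f.commutes

include h in
theorem tpt_over (p : B →ₐ[A] T) :
    (Spec.map (CommRingCat.ofHom p.toRingHom) ≫ xB) ≫ X.hom = (testObj yA T).hom := by
  show _ = Spec.map _ ≫ yA ≫ Y.hom
  rw [Category.assoc, ← Over.w φ, reassoc_of% h, ← Category.assoc, specMap_algHom]

/-- The points coming from the given one. -/
def tpt (p : B →ₐ[A] T) : testObj yA T ⟶ X :=
  Over.homMk (Spec.map (CommRingCat.ofHom p.toRingHom) ≫ xB) (tpt_over yA xB h p)

theorem tpt_φ (p q : B →ₐ[A] T) : tpt yA xB h p ≫ φ = tpt yA xB h q ≫ φ := by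
  apply Over.OverMorphism.ext
  show (Spec.map _ ≫ xB) ≫ φ.left = (Spec.map _ ≫ xB) ≫ φ.left
  rw [Category.assoc, Category.assoc, h, ← Category.assoc, ← Category.assoc, specMap_algHom, specMap_algHom]

/-- The matrix moving one point to the other. -/
def dmat (p q : B →ₐ[A] T) : Matrix.GeneralLinearGroup (Fin n) T :=
  (exists_eq_matPt (AssocBundle.div hcart (tpt yA xB h p) (tpt yA xB h q) (tpt_φ yA xB h p q))).choose

theorem lift_dmat (p q : B →ₐ[A] T) :
    lift (matPt _ (dmat hcart yA xB h p q)) (tpt yA xB h q) ≫ a.act = tpt yA xB h p := by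
  rw [dmat, ← (exists_eq_matPt (AssocBundle.div hcart (tpt yA xB h p) (tpt yA xB h q) (tpt_φ yA xB h p q))).choose_spec]
  exact AssocBundle.div_act hcart _ _ _

theorem dmat_eq (p q : B →ₐ[A] T) (g : Matrix.GeneralLinearGroup (Fin n) T)
    (hg : lift (matPt _ g) (tpt yA xB h q) ≫ a.act = tpt yA xB h p) : dmat hcart yA xB h p q = g := by
  have h1 := AssocBundle.div_eq hcart _ _ (tpt_φ yA xB h p q) _ hg
  have h2 := (exists_eq_matPt (AssocBundle.div hcart (tpt yA xB h p) (tpt yA xB h q) (tpt_φ yA xB h p q))).choose_spec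
  exact matPt_injective (h2.symm.trans h1)

/-- The morphism of test objects of an algebra map. -/
def tmap (f : T →ₐ[A] T') : testObj yA T' ⟶ testObj yA T :=
  Over.homMk (Spec.map (CommRingCat.ofHom f.toRingHom)) (by
    show Spec.map _ ≫ Spec.map _ ≫ yA ≫ Y.hom = Spec.map _ ≫ yA ≫ Y.hom
    rw [← Category.assoc, specMap_algHom])

theorem tmap_tpt (f : T →ₐ[A] T') (p : B →ₐ[A] T) : tmap yA f ≫ tpt yA xB h p = tpt yA xB h (f.comp p) := by
  apply Over.OverMorphism.ext
  show Spec.map _ ≫ Spec.map _ ≫ xB = Spec.map _ ≫ xB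
  rw [← Category.assoc, ← Spec.map_comp, ← CommRingCat.ofHom_comp]
  rfl

theorem tmap_matPt (f : T →ₐ[A] T') (g : Matrix.GeneralLinearGroup (Fin n) T) :
    tmap yA f ≫ matPt (S := S) _ g = matPt _ (Matrix.GeneralLinearGroup.map f.toRingHom g) :=
  map_matPt f.toRingHom (tmap yA f) rfl g

theorem map_dmat (f : T →ₐ[A] T') (p q : B →ₐ[A] T) :
    dmat hcart yA xB h (f.comp p) (f.comp q) = Matrix.GeneralLinearGroup.map f.toRingHom (dmat hcart yA xB h p q) := by
  apply dmat_eq
  rw [← tmap_tpt, ← tmap_tpt, ← tmap_matPt, ← comp_lift, Category.assoc, lift_dmat]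

theorem dmat_mul (p q r : B →ₐ[A] T) :
    dmat hcart yA xB h p q * dmat hcart yA xB h q r = dmat hcart yA xB h p r := by
  symm
  apply dmat_eq
  rw [matPt_mul, AlgGrp.Action.lift_mul_act, lift_dmat, lift_dmat]

theorem dmat_self (p : B →ₐ[A] T) : dmat hcart yA xB h p p = 1 := by
  apply dmat_eq
  rw [matPt_one, AlgGrp.Action.lift_one_act]

include hcart h in
/-- A torsor under `GL_n` trivialised by a faithfully flat algebra over a local ring has a section. -/
theorem exists_section_of_local [IsLocalRing A] [Module.FaithfullyFlat A B] :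
    ∃ s : Spec (CommRingCat.of A) ⟶ X.left, s ≫ φ.left = yA := by
  let d := dmat hcart yA xB h (ι₁ (A := A) (B := B)) ι₂
  have hd (T : Type u) [CommRing T] [Algebra A T] (c₁ c₂ : B →ₐ[A] T) :
      (Algebra.TensorProduct.lift c₁ c₂ fun _ _ => Commute.all _ _).toRingHom.mapMatrix d.val =
        (dmat hcart yA xB h c₁ c₂).val := by
    have e := map_dmat hcart yA xB h (Algebra.TensorProduct.lift c₁ c₂ fun _ _ => Commute.all _ _) ι₁ ι₂
    rw [show (Algebra.TensorProduct.lift c₁ c₂ fun _ _ => Commute.all _ _).comp (ι₁ (A := A) (B := B)) = c₁ from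
        AlgHom.ext fun b => by simp,
      show (Algebra.TensorProduct.lift c₁ c₂ fun _ _ => Commute.all _ _).comp (ι₂ (A := A) (B := B)) = c₂ from
        AlgHom.ext fun b => by simp] at e
    rw [e]
    rfl
  obtain ⟨P, hP, hPeq⟩ := exists_coboundary (A := A) (B := B) d.val
    (by rw [hd, hd, hd, ← Units.val_mul, dmat_mul])
    (by
      have e := map_dmat hcart yA xB h (Algebra.TensorProduct.lmul' A (S := B)) ι₁ ι₂
      rw [Algebra.TensorProduct.lmul'_comp_includeLeft, Algebra.TensorProduct.lmul'_comp_includeRight,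
        dmat_self] at e
      exact (congrArg Units.val e).symm)
  let u : Matrix.GeneralLinearGroup (Fin n) B := Matrix.GeneralLinearGroup.mk'' P hP
  have hu : d * Matrix.GeneralLinearGroup.map (ι₂ (A := A)).toRingHom u =
      Matrix.GeneralLinearGroup.map (ι₁ (A := A)).toRingHom u := Units.ext hPeq
  let q : testObj yA B ⟶ X := lift (matPt _ u⁻¹) (tpt yA xB h (AlgHom.id A B)) ≫ a.act
  have hq : tmap yA (ι₁ (A := A) (B := B)) ≫ q = tmap yA (ι₂ (A := A) (B := B)) ≫ q := by
    simp only [q, comp_lift_assoc, tmap_matPt, tmap_tpt, AlgHom.comp_id]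
    rw [← lift_dmat hcart yA xB h ι₁ ι₂, ← AlgGrp.Action.lift_mul_act, ← matPt_mul]
    congr 3
    rw [map_inv, map_inv, inv_mul_eq_iff_eq_mul, eq_mul_inv_iff_mul_eq]
    exact hu
  let p := Spec.map (CommRingCat.ofHom (algebraMap A B))
  haveI : Flat p := by
    rw [Flat.SpecMap_iff, CommRingCat.hom_ofHom, RingHom.flat_algebraMap_iff]; infer_instance
  haveI : Surjective p := ⟨PrimeSpectrum.comap_surjective_of_faithfullyFlat⟩
  haveI : EffectiveEpi p := inferInstance
  have hdesc : ∀ {Z : Scheme.{u}} (g₁ g₂ : Z ⟶ Spec (CommRingCat.of B)), g₁ ≫ p = g₂ ≫ p →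
      g₁ ≫ q.left = g₂ ≫ q.left := by
    intro Z g₁ g₂ e
    let l : Z ⟶ Spec (CommRingCat.of (B ⊗[A] B)) := pullback.lift g₁ g₂ e ≫ (pullbackSpecIso A B B).hom
    have e1 : g₁ = l ≫ Spec.map (CommRingCat.ofHom (ι₁ (A := A) (B := B)).toRingHom) := by
      rw [Category.assoc]
      have := (Iso.eq_inv_comp (pullbackSpecIso A B B)).mp (pullbackSpecIso_inv_fst A B B).symm
      exact (pullback.lift_fst g₁ g₂ e).symm.trans (congrArg (pullback.lift g₁ g₂ e ≫ ·) this.symm)
    have e2 : g₂ = l ≫ Spec.map (CommRingCat.ofHom (ι₂ (A := A) (B := B)).toRingHom) := by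
      rw [Category.assoc]
      have := (Iso.eq_inv_comp (pullbackSpecIso A B B)).mp (pullbackSpecIso_inv_snd A B B).symm
      exact (pullback.lift_snd g₁ g₂ e).symm.trans (congrArg (pullback.lift g₁ g₂ e ≫ ·) this.symm)
    rw [e1, e2, Category.assoc, Category.assoc]
    exact congrArg (l ≫ ·) (congrArg (fun m => m.left) hq)
  refine ⟨EffectiveEpi.desc p q.left hdesc, ?_⟩
  rw [← cancel_epi p, EffectiveEpi.fac_assoc]
  have hφ : q ≫ φ = tpt yA xB h (AlgHom.id A B) ≫ φ := by
    simp only [q, Category.assoc, hcart.w, lift_snd_assoc]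
  refine (congrArg (fun m => m.left) hφ).trans ?_
  show (Spec.map (CommRingCat.ofHom (RingHom.id B)) ≫ xB) ≫ φ.left = _
  rw [show CommRingCat.ofHom (RingHom.id B) = 𝟙 (CommRingCat.of B) from rfl, Spec.map_id, Category.id_comp, h]

end

end Groth.Agent.SpecialGL
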